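import Cfsg.Agent.Lib.T2X.E
import Cfsg.Agent.Lib.T2X.G2
import Cfsg.Agent.S2342

/-! The Borel subgroup of `³D₄(q)` is not transitive in a faithful doubly transitive action. -/

set_option autoImplicit false
set_option linter.unusedSectionVars false

namespace Cfsg.Agent.T2X

open MulAction Finset T2 Chev RD RSys PreRGD ChevM _root_.Cfsg.Lie

section gen
variable {ι I : Type*} [Fintype I] [DecidableEq I] [Fintype ι] [DecidableEq ι] {R : RSys ι I}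
  {G : Type*} [Group G] {P : PreRGD R G}

theorem eq_one_of_ht (hP : P.Nondeg) {r : ι} (hr : R.IsPos r) {x : G} (hx : x ∈ P.X r)
    (hx' : x ∈ P.US {s | R.IsPos s ∧ R.ht r ≤ R.ht s ∧ s ≠ r}) : x = 1 :=
  hP.eq_one_of_mem_X_US hr (fun _ h => h.1) (fun a ha b hb k hk => by
    have h1 := ht_lt_of_intv ha.1 hb.1 hk
    have h2 := ha.2.1
    have h3 := hb.2.1
    have h4 := hr.ht_pos
    exact ⟨isPos_iff_ht.2 (by omega), by omega, fun e => by rw [e] at h1; omega⟩) (fun e => e.2.2 rfl) hx hx'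

end gen

namespace D4

open G2 (rt ht_tab memQ)

section rel
variable {Γ : Type*} [Group Γ] [Finite Γ] {P : PreRGD (rs chevG2) Γ}

theorem raise_V {n : ℕ} (h : 1 ≤ n ∧ n + 7 < 12) {β : Fin chevG2.nroots} (hβ : (rs chevG2).ht β ≤ n) {a x : Γ}
    (h1 : x * a * x⁻¹ * a⁻¹ ∈ VH P n) (h2 : x * a * x⁻¹ * a⁻¹ ∉ VH P (n + 1 : ℕ)) :
    ∃ z ∈ P.X ⟨n + 7, h.2⟩, z ≠ 1 ∧ z⁻¹ * (x * a * x⁻¹ * a⁻¹) ∈
      P.US {s | 0 < (rs chevG2).rc s ⟨1, by decide⟩ ∧ s ≠ ⟨n + 7, h.2⟩ ∧ (rs chevG2).ht β < (rs chevG2).ht s} := by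
  obtain ⟨z, hz, b, hb, e⟩ := split_VH (β := ⟨n + 7, h.2⟩) ((ht_tab _ n h.1).2 le_rfl) (fun s h1 h2 h3 => by
    have h4 := (ht_tab s n h.1).1 ⟨h1, h2⟩
    have h5 : s.1 ≠ n + 7 := fun e => h3 (Fin.ext e)
    exact_mod_cast ((ht_tab s (n + 1) (by omega)).2 (by omega)).2) h1
  rw [e] at h2 ⊢
  refine ⟨z, hz, fun e => h2 (by rw [e, one_mul]; exact_mod_cast hb), ?_⟩
  rw [inv_mul_cancel_left]
  refine US_mono (S := {r | (rs chevG2).IsPos r ∧ (n : ℤ) + 1 < (rs chevG2).ht r}) hb fun s hs => ?_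
  have h3 := (ht_tab s (n + 1) (by omega)).1 ⟨hs.1, by exact_mod_cast hs.2⟩
  have h4 := hs.2
  exact ⟨(memQ s).2 (Or.inr (by omega)), fun e => by rw [e] at h3; simp at h3, by omega⟩

theorem not_trs {q : ℕ} (W : TW P q 3 3) (hP : P.Nondeg) (hf : P.full = ⊤) (hI : IR P)
    (hq : IsPrimePow q) (hH : ∀ p, p.Prime → p ∣ q → ¬ p ∣ Nat.card P.H)
    (h6 : ∀ a ∈ P.X (rt 6), a ≠ 1 → ∃ x ∈ P.X (rt 7), x * a * x⁻¹ * a⁻¹ ∉ VH P (1 + 1 : ℕ))
    (h8 : ∀ a ∈ P.X (rt 8), a ≠ 1 → ∃ x ∈ P.X (rt 7), x * a * x⁻¹ * a⁻¹ ∉ VH P (2 + 1 : ℕ))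
    {Ω : Type*} [MulAction Γ Ω] [Finite Ω] [Nontrivial Ω] [FaithfulSMul Γ Ω] (h2 : Two Γ Ω) : ¬ Trs Ω P.B := by
  have X : XOK chevG2 11 1 3 3 4 (lw chevG2 3 3) [9, 8, 5, 4, 1, 0] := by decide +kernel
  have h1 := hq.two_le
  have p7 : (rs chevG2).IsPos (rt 7) := (rs_isPos_iff_le _).2 (by decide)
  refine XOK.not_trs (θ := rt 11) (j := ⟨1, by decide⟩) X hP W.card hf W.ld hI hq hH h2 (by decide) (by decide)
    (fun r => (W.lg r).2) (S := q ^ 4 - q ^ 2 + 1) ?_ ?_ (fun r _ h => Or.inl ?_) fun β hβ => ?_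
  · obtain ⟨s, rfl⟩ := Nat.exists_eq_add_of_le h1
    zify [Nat.pow_le_pow_right (by omega : 0 < 2 + s) (by norm_num : 2 ≤ 4)]
    rw [← sub_pos]
    ring_nf
    positivity
  · simp only [List.map, List.sum_cons, List.sum_nil]
    zify [one_le_two.trans h1, fun k => Nat.one_le_pow k q hq.pos, Nat.pow_le_pow_right hq.pos (by norm_num : 2 ≤ 4)]
    ring
  · rw [W.card, if_neg h]
    nlinarith [Nat.pow_lt_pow_right hq.one_lt (by norm_num : 1 < 3)]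
  have key : ∀ β : Fin chevG2.nroots, rc chevG2 β ⟨1, by decide⟩ = 1 → β = rt 6 ∨ β = rt 8 ∨ β = rt 9 ∨ β = rt 10 := by
    decide +kernel
  have c : ∀ α β : Fin chevG2.nroots, (rc chevG2 α ⟨1, by decide⟩ = 1 ∧
      ∀ i, rc chevG2 α i = rc chevG2 (rt 7) i + rc chevG2 β i) → (rs chevG2).rc α ⟨1, by decide⟩ = 1 ∧
      (rs chevG2).rc α = (rs chevG2).rc (rt 7) + (rs chevG2).rc β := fun _ _ h => ⟨h.1, funext h.2⟩
  rcases key β hβ with rfl | rfl | rfl | rfl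
  · obtain ⟨c1, c2⟩ := c (rt 8) (rt 6) (by decide +kernel)
    refine Or.inr ⟨_, p7, _, c1, c2, fun a ha ha1 => ?_⟩
    obtain ⟨x, hx, h3⟩ := h6 a ha ha1
    exact ⟨x, hx, raise_V (n := 1) (by decide) (by rw [ht_eq]; decide +kernel) (VH_mono (by norm_num)
      (comm_VH (U_le_VH (P.X_le_U p7 hx)) (U_le_VH (P.X_le_U ((rs_isPos_iff_le _).2 (by decide)) ha)))) h3⟩
  · obtain ⟨c1, c2⟩ := c (rt 9) (rt 8) (by decide +kernel)
    refine Or.inr ⟨_, p7, _, c1, c2, fun a ha ha1 => ?_⟩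
    obtain ⟨x, hx, h3⟩ := h8 a ha ha1
    have h4 : a ∈ VH P (1 : ℕ) := mem_USub (S := {r | (rs chevG2).IsPos r ∧ ((1 : ℕ) : ℤ) < (rs chevG2).ht r})
      ((ht_tab (rt 8) 1 le_rfl).2 le_rfl) ha
    exact ⟨x, hx, raise_V (n := 2) (by decide) (by rw [ht_eq]; decide +kernel) (VH_mono (by norm_num)
      (comm_VH (U_le_VH (P.X_le_U p7 hx)) h4)) h3⟩
  · obtain ⟨c1, c2⟩ := c (rt 10) (rt 9) (by decide +kernel)
    exact Or.inr ⟨_, p7, _, c1, c2, raise_of_lg W.ld ((W.lg _).2 rfl) c2 (rs_pair _ _) _⟩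
  · exact Or.inl (Fin.ext (reflectRoot_eq ⟨1, by decide⟩ (rt 11)))

end rel

theorem coll6 : (collD4 0 id).check ([(18, [(1, [])]), (13, [(1, [])]), (12, [(1, [])])] ++ [(14, [(1, [0])])])
    ([(15, [(1, [0])])] ++ [(16, [(1, [0])]), (19, [(-1, [0])]), (17, [(1, [0])]), (20, [(-1, [0])]), (21, [(-1, [0])]),
      (22, [(-1, [0])]), (23, [(-2, [0, 0])])] ++
      [(14, [(1, [0])])] ++ [(18, [(1, [])]), (13, [(1, [])]), (12, [(1, [])])]) = true := by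
  decide +kernel

theorem coll8 : (collD4 0 id).check ([(18, [(1, [0])]), (13, [(1, [1])]), (12, [(1, [2])])] ++ [(19, [(1, [3])]),
      (16, [(-1, [4])]), (15, [(-1, [5])])])
    ([(17, [(-1, [1, 5]), (-1, [2, 4])])] ++ [(20, [(1, [0, 5]), (1, [2, 3])]), (21, [(1, [0, 4]), (1, [1, 3])]),
      (22, [(1, [0, 1, 5]), (1, [0, 2, 4]), (1, [1, 2, 3])]), (23, [(1, [1, 3, 5]), (1, [2, 3, 4]), (1, [0, 4, 5])])] ++
      [(19, [(1, [3])]), (16, [(-1, [4])]), (15, [(-1, [5])])] ++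
      [(18, [(1, [0])]), (13, [(1, [1])]), (12, [(1, [2])])]) = true := by
  decide +kernel

variable {K : Type*} [Field K] [Finite K] {φ : K →+* K} {σ : chevD4.group K →* chevD4.group K}
  (h : IsTw chevD4 twD4a (xG chevD4 K) φ σ) {Γ : Type*} [Group Γ] [Finite Γ] {e : Γ →* chevD4.group K} (E : h.fold.Emb e)

theorem lead0 {n : ℕ} (hn : 1 ≤ n) {x a : Γ} (hc : x * a * x⁻¹ * a⁻¹ ∈ VH ((S2342.fold.fm h).pre E) n)
    {r : Fin chevD4.nroots} {p : Pol} {w wx wa : List (ℕ × Pol)}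
    (hw : (collD4 0 id).check (wx ++ wa) ([(r.1, p)] ++ w ++ wa ++ wx) = true) (v : ℕ → K)
    (ex : e x = evS (xG chevD4 K) v wx) (ea : e a = evS (xG chevD4 K) v wa) (L : List ℕ)
    (hL : chevD4.nroots ≤ 2 * r.1 ∧ (∀ a ∈ w, a.1 < chevD4.nroots ∧ a.1 ∈ L) ∧ ∀ s : Fin chevD4.nroots,
      (n + 7 ≤ S2342.fd s → s.1 ∈ L) ∧ (s.1 ∈ L → chevD4.nroots ≤ 2 * s.1 ∧
        sumLt chevD4.rank (rcN chevD4 r) ≤ sumLt chevD4.rank (rcN chevD4 s) ∧ s ≠ r)) : evP v p = 0 := by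
  have ec : e (x * a * x⁻¹ * a⁻¹) = evS (xG chevD4 K) v ([(r.1, p)] ++ w) := by
    have c1 := evS_eq_of_check h.chv.rel (collFor_D4 0 id) (charOK_zero K) v hw
    rw [evS_append, evS_append, evS_append] at c1
    rw [map_mul, map_mul, map_mul, map_inv, map_inv, mul_inv_eq_iff_eq_mul, mul_inv_eq_iff_eq_mul, ea, ex, c1]
  have h1 := ((S2342.fold.fm h).mem_US E (halfSpace_of_pos fun _ h => h.1) ((ideal_ht_gt _).closed fun _ h => h.1)).1 hc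
  have h2 : e (x * a * x⁻¹ * a⁻¹) ∈ USub (XS chevD4 (xG chevD4 K)) {s | s.1 ∈ L} :=
    USub_mono (fun s hs => (hL.2.2 s).1 ((ht_tab _ n hn).1 hs)) h1
  rw [ec, evS_append, Subgroup.mul_mem_cancel_right _ (evS_mem_USub v fun a ha => ⟨(hL.2.1 a ha).1, (hL.2.1 a ha).2⟩), evS_cons, evS_nil, mul_one] at h2
  refine (xG_eq_one_iff r.2).1 (eq_one_of_ht (nondeg chevD4 K) ((rs_isPos_iff_le r).2 hL.1) (xG_mem_X r _)
    (USub_mono (fun s hs => ?_) h2))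
  obtain ⟨a, b, c⟩ := (hL.2.2 s).2 hs
  exact ⟨(rs_isPos_iff_le s).2 a, by rwa [ht_eq, ht_eq], c⟩

variable (hφk : ∀ t, φ^[3] t = t)
include hφk

theorem mem7 (t : K) : ∃ y ∈ ((S2342.fold.fm h).pre E).X (rt 7),
    e y = xG chevD4 K 18 t * xG chevD4 K 13 (φ t) * xG chevD4 K 12 (φ (φ t)) := by
  have t18 : t ∈ Chev.Fx twD4a 3 φ 18 := Chev.mem_Fx.2 (hφk t)
  have y18 := h.map_Y' per_D4 E ⟨18, by decide⟩ t18
  have m18 := S2342.fold.Y_mem h per_D4 E (r := ⟨18, by decide⟩) t18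
  generalize h.Y E _ (kr _ _ _) t = y at y18 m18
  rw [show (S2342.fold.fm h).φ ⟨18, by decide⟩ = rt 7 from Fin.ext (show S2342.fd 18 = 7 by decide)] at m18
  rw [show kr twD4a 3 _ = 3 by decide, dl_three, h.σ_eq (s := 13) (by decide), h.σ_eq (s := 12) (by decide)] at y18
  exact ⟨y, m18, y18⟩

theorem six : ∀ a ∈ ((S2342.fold.fm h).pre E).X (rt 6), a ≠ 1 → ∃ x ∈ ((S2342.fold.fm h).pre E).X (rt 7),
    x * a * x⁻¹ * a⁻¹ ∉ VH ((S2342.fold.fm h).pre E) (1 + 1 : ℕ) := fun a ha ha1 => by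
  rw [← show (S2342.fold.fm h).φ ⟨14, by decide⟩ = rt 6 from Fin.ext (show S2342.fd 14 = 6 by decide),
    S2342.fold.mem_X_fix h per_D4 E (by decide)] at ha
  obtain ⟨u, -, ea⟩ := ha
  obtain ⟨y, hy, ey⟩ := mem7 h E hφk 1
  refine ⟨y, hy, fun hc => ha1 (E.inj ?_)⟩
  have c2 := lead0 h E (by decide) hc (r := ⟨15, by decide⟩) coll6 (fun _ => u) (by simp [ey, mul_assoc])
    (by simp [ea]) [16, 19, 17, 20, 21, 22, 23] (by decide +kernel)
  rw [ea, map_one, show u = 0 by simpa using c2, xG_zero]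

theorem eight {q : ℕ} (hφ : ∀ t, φ t = t ^ q) (hK : Nat.card K = q ^ 3) (hq : 1 < q) :
    ∀ a ∈ ((S2342.fold.fm h).pre E).X (rt 8), a ≠ 1 → ∃ x ∈ ((S2342.fold.fm h).pre E).X (rt 7),
    x * a * x⁻¹ * a⁻¹ ∉ VH ((S2342.fold.fm h).pre E) (2 + 1 : ℕ) := fun a ha ha1 => by
  rw [← show (S2342.fold.fm h).φ ⟨19, by decide⟩ = rt 8 from Fin.ext (show S2342.fd 19 = 8 by decide),
    S2342.fold.mem_X h per_D4 E] at ha
  obtain ⟨u, -, ea⟩ := ha
  have s19 : ∀ t, σ (xG chevD4 K 19 t) = xG chevD4 K 16 (-φ t) := fun t => by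
    have := h.map ⟨19, by decide⟩ t
    rwa [show twD4a.π (⟨19, by decide⟩ : Fin chevD4.nroots) = 16 by decide,
      show twD4a.ε (⟨19, by decide⟩ : Fin chevD4.nroots) = -1 by decide,
      show twD4a.e (⟨19, by decide⟩ : Fin chevD4.nroots) = 1 by decide, Int.cast_neg, Int.cast_one, neg_one_mul,
      pow_one] at this
  rw [show kr twD4a 3 _ = 3 by decide, dl_three, s19, h.σ_eq (s := 15) (by decide), map_neg] at ea
  have hu : u ≠ 0 := fun e' => ha1 (E.inj (by simp [ea, e', xG_zero]))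
  obtain ⟨s, hs⟩ : ∃ s : K, s + φ s ≠ 0 := by
    by_contra! hs
    have h1 : ∀ s : K, φ s = s := fun s => by
      have h2 := hs 1
      rw [map_one] at h2
      linear_combination hs s - s * h2
    have h2 := OrdB.ncard_pow_eq_self hK hq
    rw [Set.eq_univ_of_forall (s := {t : K | t ^ q = t}) fun t => (hφ t).symm.trans (h1 t), Set.ncard_univ, hK] at h2
    nlinarith [Nat.pow_lt_pow_right hq (by norm_num : 1 < 3)]
  obtain ⟨y, hy, ey⟩ := mem7 h E hφk (u * s)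
  refine ⟨y, hy, fun hc => ?_⟩
  have c2 := lead0 h E (by decide) hc (r := ⟨17, by decide⟩) coll8
    (List.getD [u * s, φ (u * s), φ (φ (u * s)), u, φ u, φ (φ u)] · 0) (by simp [ey, mul_assoc])
    (by simp [ea, mul_assoc]) [20, 21, 22, 23] (by decide +kernel)
  refine (map_ne_zero φ).2 (mul_ne_zero (mul_ne_zero hu ((map_ne_zero φ).2 hu)) hs) ?_
  simp only [evP_cons, evP_nil, List.map, List.getD_cons_succ, List.getD_cons_zero, List.prod_cons, List.prod_nil, map_mul,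
    map_add] at c2 ⊢
  push_cast at c2
  linear_combination -c2

end D4

theorem not_B_tD4 {K : Type*} [Field K] [Fintype K] {q : ℕ} (hq : IsPrimePow q) (hK : Fintype.card K = q ^ 3)
    {φ : K →+* K} (hφ : ∀ t, φ t = t ^ q) (hφk : ∀ t, φ^[3] t = t) {Ω : Type*} [MulAction (twistedD4 K q) Ω] [Finite Ω]
    [Nontrivial Ω] [FaithfulSMul (twistedD4 K q) Ω] (h2 : Two (twistedD4 K q) Ω) : ¬ ∀ a b : Ω,
      ∃ g ∈ ((S2342.fold.fm (isTw_adj (twOK_D4a K) φ)).pre (emb_twistedD4 φ hφ hφk)).B, g • a = b := by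
  rw [← Nat.card_eq_fintype_card] at hK
  have E := emb_twistedD4 φ hφ hφk
  have W := S2342.fold.tw _ per_D4 E (range_twistedD4 φ hφ hφk).le hφ hφk hK hq.one_lt (by norm_num) (c := 3)
    (by decide +kernel) (by decide +kernel)
  exact D4.not_trs W (FoldMap.pre_nondeg _ E) (FoldMap.pre_full _ E) (ir_fm _ _ per_D4 E hφk W.ld) hq
    (not_dvd_H' hK three_ne_zero E.inj) (D4.six _ E hφk) (D4.eight _ E hφk hφ hK hq.one_lt) h2

end Cfsg.Agent.T2X
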