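import Cfsg.Agent.Lib.T2X.E

/-! The groups of type `E₆`, `E₇`, `E₈`. -/

set_option autoImplicit false

namespace Cfsg.Agent.T2X

open T2 Chev ChevM _root_.Cfsg.Lie

variable {F : Type*} [Field F] [Finite F]

theorem not_B_E6 {Ω : Type*} [MulAction (chevE6.group F) Ω] [Finite Ω] [Nontrivial Ω]
    [FaithfulSMul (chevE6.group F) Ω] (h2 : Two (chevE6.group F) Ω) : ¬ ∀ a b : Ω, ∃ g ∈ (PG chevE6 F).B, g • a = b :=
  sl_not_trs h2 (θ := ⟨71, by decide⟩) (j := ⟨1, by decide⟩) (m := 10) (S := fun q => (q ^ 4 + 1) * (q ^ 6 + q ^ 3 + 1))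
    (l := [21, 20, 19, 18, 17, 18, 17, 16, 16, 15, 14, 15, 14, 13, 12, 11, 17, 16, 15, 15, 14, 13, 14, 13, 12, 11, 14,
    13, 12, 11, 13, 12, 11, 12, 11, 11, 10, 10, 9, 10, 9, 8, 10, 9, 8, 7, 10, 9, 8, 7, 8, 7, 6, 6, 5, 4, 10, 9, 8,
    7, 6, 7, 6, 5, 5, 4, 3, 4, 3, 2, 1, 0])
    (by decide +kernel) (by decide +kernel) (by decide) fun q hq => by
      refine ⟨?_, ?_⟩
      · obtain ⟨s, rfl⟩ := Nat.exists_eq_add_of_le hq
        zify
        rw [← sub_pos]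
        ring_nf
        positivity
      · simp only [List.map, List.sum_cons, List.sum_nil]
        zify [one_le_two.trans hq, fun k => Nat.one_le_pow k q (two_pos.trans_le hq)]
        ring

theorem not_B_E7 {Ω : Type*} [MulAction (chevE7.group F) Ω] [Finite Ω] [Nontrivial Ω]
    [FaithfulSMul (chevE7.group F) Ω] (h2 : Two (chevE7.group F) Ω) : ¬ ∀ a b : Ω, ∃ g ∈ (PG chevE7 F).B, g • a = b :=
  sl_not_trs h2 (θ := ⟨125, by decide⟩) (j := ⟨0, by decide⟩) (m := 16) (S := fun q => q ^ 16 + q ^ 12 + q ^ 10 + q ^ 8 + q ^ 6 + q ^ 4 + 1)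
    (l := [33, 32, 31, 30, 29, 28, 27, 29, 28, 27, 26, 27, 26, 25, 25, 24, 23, 26, 25, 24, 24, 23, 22, 23, 22, 21, 20,
    22, 21, 20, 19, 18, 17, 25, 24, 23, 23, 22, 21, 22, 21, 20, 19, 21, 20, 19, 18, 17, 21, 20, 19, 18, 17, 20,
    19, 18, 17, 19, 18, 17, 18, 17, 17, 16, 16, 15, 16, 15, 14, 16, 15, 14, 13, 16, 15, 14, 13, 12, 16, 15, 14,
    13, 12, 14, 13, 12, 11, 12, 11, 10, 10, 9, 8, 16, 15, 14, 13, 12, 11, 13, 12, 11, 10, 11, 10, 9, 9, 8, 7, 10,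
    9, 8, 8, 7, 6, 7, 6, 5, 4, 6, 5, 4, 3, 2, 1, 0])
    (by decide +kernel) (by decide +kernel) (by decide) fun q hq => by
      refine ⟨?_, ?_⟩
      · obtain ⟨s, rfl⟩ := Nat.exists_eq_add_of_le hq
        zify
        rw [← sub_pos]
        ring_nf
        positivity
      · simp only [List.map, List.sum_cons, List.sum_nil]
        zify [one_le_two.trans hq, fun k => Nat.one_le_pow k q (two_pos.trans_le hq)]
        ring

set_option maxRecDepth 8000 in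
theorem not_B_E8 {Ω : Type*} [MulAction (chevE8.group F) Ω] [Finite Ω] [Nontrivial Ω]
    [FaithfulSMul (chevE8.group F) Ω] (h2 : Two (chevE8.group F) Ω) : ¬ ∀ a b : Ω, ∃ g ∈ (PG chevE8 F).B, g • a = b :=
  sl_not_trs h2 (θ := ⟨239, by decide⟩) (j := ⟨7, by decide⟩) (m := 28) (S := fun q => (q ^ 6 + 1) * (q ^ 10 + 1) * (q ^ 12 + 1))
    (l := [57, 56, 55, 54, 53, 52, 51, 51, 50, 49, 48, 47, 46, 45, 50, 49, 48, 47, 46, 45, 44, 47, 46, 45, 44, 43, 45,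
    44, 43, 42, 43, 42, 41, 41, 40, 39, 44, 43, 42, 41, 42, 41, 40, 40, 39, 38, 41, 40, 39, 39, 38, 37, 38, 37,
    36, 35, 40, 39, 38, 38, 37, 36, 37, 36, 35, 34, 36, 35, 34, 33, 32, 35, 34, 33, 32, 31, 30, 29, 39, 38, 37,
    37, 36, 35, 36, 35, 34, 33, 35, 34, 33, 32, 31, 34, 33, 32, 31, 30, 29, 34, 33, 32, 31, 30, 29, 33, 32, 31,
    30, 29, 32, 31, 30, 29, 31, 30, 29, 30, 29, 29, 28, 28, 27, 28, 27, 26, 28, 27, 26, 25, 28, 27, 26, 25, 24,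
    28, 27, 26, 25, 24, 23, 28, 27, 26, 25, 24, 23, 26, 25, 24, 23, 22, 24, 23, 22, 21, 22, 21, 20, 20, 19, 18,
    28, 27, 26, 25, 24, 23, 22, 25, 24, 23, 22, 21, 23, 22, 21, 20, 21, 20, 19, 19, 18, 17, 22, 21, 20, 19, 20,
    19, 18, 18, 17, 16, 19, 18, 17, 17, 16, 15, 16, 15, 14, 13, 18, 17, 16, 16, 15, 14, 15, 14, 13, 12, 14, 13,
    12, 11, 10, 13, 12, 11, 10, 9, 8, 7, 12, 11, 10, 9, 8, 7, 6, 6, 5, 4, 3, 2, 1, 0])
    (by decide +kernel) (by decide +kernel) (by decide) fun q hq => by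
      refine ⟨?_, ?_⟩
      · obtain ⟨s, rfl⟩ := Nat.exists_eq_add_of_le hq
        zify
        rw [← sub_pos]
        ring_nf
        positivity
      · simp only [List.map, List.sum_cons, List.sum_nil]
        zify [one_le_two.trans hq, fun k => Nat.one_le_pow k q (two_pos.trans_le hq)]
        ring

end Cfsg.Agent.T2X
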