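import Cfsg.Agent.Lib.T2X.F4b

/-! The group of type `F₄` in characteristic two. -/

set_option autoImplicit false
set_option linter.unusedSectionVars false
set_option synthInstance.maxSize 8000

namespace Cfsg.Agent.T2X.F4

open MulAction Finset T2 Chev RD RSys PreRGD ChevM _root_.Cfsg.Lie

variable {F : Type*} [Field F] [Finite F] [CharP F 2] {A B T : List ℕ} {x y : chevF4.group F}

/-- commutators in characteristic two -/
def Cm (A B T : List ℕ) : Prop := ∀ r ∈ A, ∀ s ∈ B, cmB 48 (otG chevF4) (memL · T) r s = true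

instance decCm (A B T : List ℕ) : Decidable (Cm A B T) := by unfold Cm; infer_instance

theorem Cm.cm (h : Cm A B T) : ∀ r ∈ ls A, ∀ x ∈ (PG chevF4 F).X r, ∀ s ∈ ls B, ∀ z ∈ (PG chevF4 F).X s,
    z⁻¹ * x⁻¹ * z * x ∈ (PG chevF4 F).US (ls T) := fun r hr x hx s hs z hz => by
  obtain ⟨t, rfl⟩ := mem_X_iff.1 hx
  obtain ⟨u, rfl⟩ := mem_X_iff.1 hz
  exact US_mono ((ot_G chevF4 F).cm (h r hr s hs) t u) fun k hk => memL_iff.1 hk

theorem Cm.nz (h : Cm A T T) : Nz ((PG chevF4 F).US (ls A)) ((PG chevF4 F).US (ls T)) :=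
  nz_of_le (USub_le_iff.2 fun r hr => Nz.le fun x hx _ hu => conj_mem_USub (fun s hs z hz => by
    simpa [mul_assoc] using mul_mem (mem_USub hs hz) (h.cm r hr _ (inv_mem hx) s hs z hz)) hu)

theorem nzB (h : Cm (List.range' 24 24) T T) : Nz (PG chevF4 F).B ((PG chevF4 F).US (ls T)) :=
  (h.nz.mono (USub_mono fun r hr => by
    have := (rs_isPos_iff_le r).1 hr
    have : r.1 < 48 := r.2
    exact List.mem_range'_1.2 ⟨by change 48 ≤ _ at *; omega, this⟩)).sup (nz_of_le (H_le_normalizer_US _ _))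

theorem stp {K : Subgroup (chevF4.group F)} (β α : Fin chevF4.nroots) (i : Fin chevF4.rank) (T : List ℕ)
    (hK : (PG chevF4 F).X ((rs chevF4).simple i) ≤ K) (hK' : (PG chevF4 F).n i ∈ K)
    (hy : y ∈ (PG chevF4 F).US (ls (β :: α :: T)))
    (h : Sub (β :: α :: T) (β :: α :: T) T ∧ Lx (chevF4.simple i) β α T ∧ Cm [chevF4.simple i] (α :: T) T ∧
      chevF4.reflectRoot i β = α ∧ ∀ s ∈ T, chevF4.reflectRoot i s ∈ T := by decide +kernel) :
    ∃ g ∈ K, g * y * g⁻¹ ∈ (PG chevF4 F).US (ls (α :: T)) := by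
  have h1 := h.1.posl
  have h2 := h.1.sub
  have h3 := h.2.2.1.cm (F := F) ((rs chevF4).simple i) (List.mem_singleton_self _)
  rw [ls_cons β.2, ls_cons α.2] at h1 h2 hy
  rw [ls_cons α.2] at h3 ⊢
  exact step h1 h2 (Lx.lx (r := (rs chevF4).simple i) h.2.1) h3 (sref_eq _ _ _ h.2.2.2.1)
    (fun s hs => show _ ∈ T from reflectRoot_eq i s ▸ h.2.2.2.2 s hs) hK hK' hy

omit [CharP F 2] in
theorem conj_one (s r : Fin chevF4.nroots) (hx : x ∈ (PG chevF4 F).X r) (h1 : x ≠ 1)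
    (h : chevF4.pairing s r = 1 := by decide +kernel) : IsConj x (xG chevF4 F r 1) := by
  obtain ⟨t, rfl⟩ := mem_X_iff.1 hx
  have ht : t ≠ 0 := fun e => h1 (e ▸ xG_zero _)
  exact isConj_iff.2 ⟨_, by rw [conj_h s r (inv_ne_zero ht) t h, zpow_one, inv_mul_cancel₀ ht]⟩

omit [CharP F 2] in
theorem conj_two (hx : x ∈ (PG chevF4 F).X (rt 47)) (h1 : x ≠ 1) (hy : y ∈ (PG chevF4 F).X (rt 44)) (h2 : y ≠ 1) :
    IsConj (x * y) (xG chevF4 F 47 1 * xG chevF4 F 44 1) := by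
  obtain ⟨t, rfl⟩ := mem_X_iff.1 hx
  obtain ⟨u, rfl⟩ := mem_X_iff.1 hy
  have ht : t ≠ 0 := fun e => h1 (e ▸ xG_zero _)
  have hu : u ≠ 0 := fun e => h2 (e ▸ xG_zero _)
  refine IsConj.trans (b := xG chevF4 F 47 1 * xG chevF4 F 44 u)
    (isConj_iff.2 ⟨hElt chevF4 (xG chevF4 F) (rt 24) t⁻¹, ?_⟩) (isConj_iff.2 ⟨hElt chevF4 (xG chevF4 F) (rt 33) u⁻¹, ?_⟩)
  · rw [← conj_mul, conj_h _ _ (inv_ne_zero ht) t (c := 1) (by decide +kernel),
      conj_h _ _ (inv_ne_zero ht) u (c := 0) (by decide +kernel)]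
    simp [ht]
  · rw [← conj_mul, conj_h _ (rt 47) (inv_ne_zero hu) 1 (c := 0) (by decide +kernel),
      conj_h _ (rt 44) (inv_ne_zero hu) u (c := 1) (by decide +kernel)]
    simp [hu]

variable {Ω : Type*} [MulAction (chevF4.group F) Ω] [Finite Ω] [Nontrivial Ω] [FaithfulSMul (chevF4.group F) Ω]

omit [CharP F 2] in
theorem semi_conj {X Y : Subgroup (chevF4.group F)} (h : ∀ y ∈ X, ∃ g ∈ (⊤ : Subgroup _), g * y * g⁻¹ ∈ Y) (hY : Semi Ω Y) :
    Semi Ω X := fun y hy a e =>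
  let ⟨g, _, hg⟩ := h y hy
  conj_eq_one_iff.1 (hY _ hg (g • a) (by simp [mul_smul, e]))

theorem card_two (F : Type*) [Field F] [Finite F] [CharP F 2] : ∃ f, Nat.card F = 2 ^ f :=
  have := Fintype.ofFinite F
  let ⟨n, _, e⟩ := FiniteField.card F 2
  ⟨n, Nat.card_eq_fintype_card.trans e⟩

theorem pg (h : Sub A A A) : IsPGroup 2 ((PG chevF4 F).US (ls A)) :=
  pg_US (nondeg _ F) (fun r => card_X (D := chevF4) (F := F) r ▸ card_two F) h.posl

variable (hB : Trs Ω (PG chevF4 F).B)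
include hB

theorem semi_line (β α s : Fin chevF4.nroots) (i : Fin chevF4.rank)
    (h : (Sub [β, α] [β, α] [] ∧ Lx (chevF4.simple i) β α [] ∧ Cm [chevF4.simple i] [α] [] ∧
      chevF4.reflectRoot i β = α ∧ ∀ s ∈ [], chevF4.reflectRoot i s ∈ []) ∧ chevF4.pairing s α = 1 ∧
      Cm (List.range' 24 24) [α] [α] ∧ Cm (List.range' 24 24) [β, α] [β, α] ∧ Sub [α] [α] [α] ∧ Sub [β, α] [β, α] [β, α] ∧
      (univ.filter fun r : Fin 48 => r.1 ∈ [β.1, α.1]).card = 2 := by decide +kernel) :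
    Semi Ω ((PG chevF4 F).US (ls [β, α])) := by
  have h1 : ∀ x ∈ (PG chevF4 F).US (ls [α]), x ≠ 1 → IsConj x (xG chevF4 F α 1) := fun x hx hx1 =>
    conj_one s α (US_one (F := F) α.2 ▸ hx) hx1 h.2.1
  have h2 : ∀ x ∈ (PG chevF4 F).US (ls [β, α]), x ≠ 1 → IsConj x (xG chevF4 F α 1) := fun x hx hx1 =>
    let ⟨g, _, e⟩ := stp (K := ⊤) β α i [] le_top trivial hx h.1
    (isConj_iff.2 ⟨g, rfl⟩).trans (h1 _ e (by simpa using hx1))
  exact semi_of_fx fun x hx hx1 => (fx_conj (h2 x hx hx1)).trans (fx_line hB (nzB h.2.2.1) (nzB h.2.2.2.1)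
    (pg h.2.2.2.2.1) (pg h.2.2.2.2.2.1) (by rw [US_one α.2, card_X]) (card_ls h.2.2.2.2.2.1 h.2.2.2.2.2.2)
    Finite.one_lt_card (fun e => one_ne_zero (xG_injective α.2 (e.trans (xG_zero _).symm))) h1 h2)

theorem semi_A : Semi Ω ((PG chevF4 F).US (ls [44, 47])) := by
  obtain ⟨a⟩ := (inferInstance : Nonempty Ω)
  have hP := nondeg chevF4 F
  have s1 := semi_line hB (rt 46) (rt 47) (rt 24) (nd 3)
  have s2 := (semi_line hB (rt 40) (rt 44) (rt 33) (nd 0)).mono (ls_mono (by decide : [44] ⊆ [40, 44]))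
  have s3 := s1.mono (ls_mono (by decide : [47] ⊆ [46, 47]))
  have e4 := US_one (F := F) (r := 44) (by decide)
  have e7 := US_one (F := F) (r := 47) (by decide)
  have d1 : ∀ g ∈ (PG chevF4 F).US (ls [46, 47]), g ∈ (PG chevF4 F).US (ls [44]) → g = 1 := fun g h1 h2 =>
    have s : Sub [46, 47] [46, 47] [46, 47] := by decide +kernel
    hP.eq_one_of_mem_X_US (pos (by decide)) s.posl s.sub (by decide) (e4 ▸ h2) h1
  have n4 := nzB (F := F) (T := [44]) (by decide +kernel)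
  have m2 := fun g => mem_append (F := F) (x := g) (A := [47]) (B := [44]) (by decide +kernel)
  have c2 := count_two (nzB (by decide +kernel)) hB a s3 s2 (fun g h => d1 g (ls_mono (by decide) h)) m2
    fun y h1 h2 x h3 h4 => conj_two (e7 ▸ h1) h2 (e4 ▸ h3) h4
  have c3 := count_two (z := xG chevF4 F 47 1 * xG chevF4 F 44 1) (nzB (by decide +kernel)) hB a s1 s2 d1
    (fun g => mem_append (x := g) (A := [46, 47]) (B := [44]) (by decide +kernel)) fun y h1 h2 x h3 h4 => by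
      obtain ⟨g, h5, h6⟩ := stp (rt 46) (rt 47) (nd 3) [] ((((PG chevF4 F).X_le_U ((rs chevF4).isPos_simple _)).trans
        (PG chevF4 F).U_le_B).trans n4.le) (n_mem _ (by decide +kernel)) h1
      exact (isConj_iff.2 ⟨g, conj_mul.symm⟩).trans (conj_two (e7 ▸ h6) (by simpa using h2)
        (e4 ▸ nz_of_le le_rfl g h5 x h3) (by simpa using h4))
  have c4 := st_mul_le s1 (ls_mono (by decide : [46, 47] ⊆ [46, 47] ++ [44])) a
  rw [card_ls (A := [46, 47] ++ [44]) (n := 3) (by decide +kernel) (by decide +kernel)] at c4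
  rw [show Nat.card ((PG chevF4 F).US (ls [(rt 46).1, (rt 47).1])) = _ from
    card_ls (n := 2) (by decide +kernel) (by decide +kernel)] at c3 c4
  rw [e4, card_X] at c2 c3
  rw [e7, card_X] at c2
  have h0 : fx Ω (xG chevF4 F 47 1 * xG chevF4 F 44 1) = 0 := by
    have hn : 0 < Nat.card Ω := Nat.card_pos
    obtain ⟨q, hq⟩ := Nat.exists_eq_add_of_le' (Finite.one_lt_card (α := F))
    rw [hq] at c2 c3 c4
    rw [show (q + 2) ^ 2 - 1 = (q + 3) * (q + 1) by rw [Nat.sub_eq_of_eq_add]; ring] at c3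
    rw [show q + 2 - 1 = q + 1 from rfl] at c2 c3
    have c5 := Nat.le_of_mul_le_mul_right (c4.trans_eq (pow_succ' _ _)) (by positivity)
    by_contra h0
    generalize st (G := chevF4.group F) _ a = s at c2
    generalize st (G := chevF4.group F) _ a = t at c3 c5
    have c6 : 1 < s := Nat.lt_of_mul_lt_mul_left (a := Nat.card Ω) (by
      rw [c2, mul_one]; exact Nat.lt_add_of_pos_right (by positivity))
    have c7 : Nat.card Ω * (t + (q + 2)) = Nat.card Ω * ((q + 3) * s) := by nlinarith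
    have c8 := Nat.eq_of_mul_eq_mul_left hn c7
    nlinarith
  refine semi_of_fx fun g hg hg1 => ?_
  obtain ⟨y, h1, x, h2, rfl⟩ := (m2 g).1 (ls_mono (by decide) hg)
  by_cases h3 : y = 1
  · exact s2.fx (by simpa [h3] using h2) hg1
  by_cases h4 : x = 1
  · exact s3.fx (by simpa [h4] using h1) hg1
  exact (fx_conj (conj_two (e7 ▸ h1) h3 (e4 ▸ h2) h4)).trans h0

/-- the centre of the unipotent radical -/
def vL : List ℕ := [29, 36, 38, 39, 40, 44, 47]

theorem semi_V : Semi Ω ((PG chevF4 F).US (ls vL)) :=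
  semi_conj (fun _ h => stp (rt 29) (rt 36) (nd 0) _ le_top trivial h) <|
  semi_conj (fun _ h => stp (rt 36) (rt 38) (nd 1) _ le_top trivial h) <|
  semi_conj (fun _ h => stp (rt 38) (rt 39) (nd 2) _ le_top trivial h) <|
  semi_conj (fun _ h => stp (rt 39) (rt 40) (nd 1) _ le_top trivial h) <|
  semi_conj (fun _ h => stp (rt 40) (rt 44) (nd 0) _ le_top trivial h) (semi_A hB)

omit hB in
theorem even (h2 : Two (chevF4.group F) Ω) : ¬ Trs Ω (PG chevF4 F).B := fun hB => by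
  obtain ⟨a⟩ := (inferInstance : Nonempty Ω)
  obtain ⟨f, hf⟩ := card_two F
  have hP := nondeg chevF4 F
  have hq : 1 < Nat.card F := Finite.one_lt_card
  have hV := semi_V hB
  have s1 : Sub qL qL vL := by decide +kernel
  have hVQ : (PG chevF4 F).US (ls vL) ≤ (PG chevF4 F).UJ {nd 3}ᶜ := Q_eq (F := F) ▸ ls_mono (by decide)
  have hZ : (PG chevF4 F).X (rt 47) ≤ (PG chevF4 F).US (ls vL) := le_USub (by decide)
  have hc : ∀ z ∈ (PG chevF4 F).US (ls vL), ∀ x ∈ (PG chevF4 F).UJ {nd 3}ᶜ, Commute z x := fun z hz x hx =>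
    commutatorElement_eq_one_iff_commute.1 (comm_mem' (nz_bot _) (nz_bot _) (fun r hr s hs x hx y hy => by
      simpa [ls_nil] using (by decide +kernel : Cm qL vL []).cm s hs _ (inv_mem hy) r hr _ (inv_mem hx)) hz (Q_eq (F := F) ▸ hx))
  have hAV : ∀ x ∈ (PG chevF4 F).UJ {nd 3}ᶜ ⊓ stabilizer _ a, x ∈ (PG chevF4 F).US (ls vL) → x = 1 :=
    fun x hx hx' => hV x hx' a hx.2
  have h1 := heis_bound inf_le_left hVQ hZ (hP.X_ne_bot _) hc (fun x hx y hy => hi.comm_Q hx hy) (fun y hy hy' z hz => by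
    rw [Q_eq] at hy ⊢
    refine surj2 (T := ls vL) s1.posl (fun r hr s hs k => hi.hook (mem_qL.1 hr) (mem_qL.1 hs)) (by decide)
      (fun r hr => (by decide : vL ⊆ qL) hr) (fun γ c1 c2 => ?_) hy hy' hz
    obtain ⟨β, c3, c4, c5, c6⟩ := (by decide +kernel : ∀ γ ∈ qL, γ ∉ vL → ∃ β ∈ qL, β < 48 ∧ Lx β γ 47 [] ∧
      ∀ i < 4, rcN chevF4 47 i = rcN chevF4 β i + rcN chevF4 γ i) γ c1 c2
    exact ⟨⟨β, c4⟩, c3, funext fun i => c6 i i.2, ls_nil ▸ Lx.lx (r := ⟨β, c4⟩) (k := rt 47) c5⟩) hAV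
  rw [card_Q, card_ls (n := 7) (by decide +kernel) (by decide +kernel)] at h1
  have h3 : st ((PG chevF4 F).UJ {nd 3}ᶜ) a ≤ Nat.card F ^ 4 := Nat.mul_self_le_mul_self_iff.1
    (Nat.le_of_mul_le_mul_right (h1.trans_eq (by ring)) (by positivity : 0 < Nat.card F ^ 7))
  have h4 : Nat.card F ^ 11 ≤ ob ((PG chevF4 F).UJ {nd 3}ᶜ) a := by
    refine Nat.le_of_mul_le_mul_right (le_trans ?_ (Nat.mul_le_mul_left _ h3)) (by positivity)
    rw [ob_mul_st, card_Q, ← pow_add]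
  obtain ⟨i, hi'⟩ := ob_pow (isPGroup_UJ (D := chevF4) (F := F) 2 {nd 3}ᶜ) a
  have hQ := nz_Q (PG chevF4 F) {nd 3}ᶜ
  have hPJ := hB.mono ((PG chevF4 F).B_le_PJ {nd 3}ᶜ)
  have h5 := (pow_dvd_of_le Nat.prime_two (i := f * 11) (by rw [hf, pow_mul]) hi' h4).trans (ob_dvd_card hQ hPJ a)
  obtain ⟨l, hl⟩ := h2.exists_lam hi.nz_Z hPJ a
  have h6 := Nat.le_of_dvd Nat.card_pos h5
  have h7 := (num_cases h5 (pow_dvd_pow _ (by norm_num : 11 ≤ 12)) Nat.card_pos (by positivity) (S := Nat.card F ^ 4 + 1)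
    (by nlinarith [Nat.one_lt_pow (by norm_num : 4 ≠ 0) hq, Nat.one_lt_pow (by norm_num : 7 ≠ 0) hq,
      pow_add (Nat.card F) 4 7]) (by positivity)
    (hl.trans (by rw [← index_eq, ← card_X (D := chevF4) (rt 47), ← (hV.mono hZ).ob a]; rfl))).resolve_right fun e => by
      have := (Nat.mul_le_mul_right _ (Nat.sub_le_sub_right h6 1)).trans e
      obtain ⟨s, hs⟩ := Nat.exists_eq_add_of_le hq
      rw [hs] at this
      zify [fun k => Nat.one_le_pow k (1 + 1 + s) (by omega)] at this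
      refine (sub_nonneg.2 this).not_gt (neg_pos.1 ?_)
      ring_nf
      positivity
  have hU := trs_U hP (not_dvd_card_H 2) hB (k := f * 12) (by rw [h7, hf, pow_mul])
  have h8 : Trs Ω ((PG chevF4 F).UJ {nd 3}ᶜ) := trs_of_dom' hU hQ (le_MR _) fun r a1 a2 a3 a4 =>
    X_le_MR' (a := a) hU (hQ.mono (B_le_PJ _ _)) ir_PG (by rw [h7, card_X, pow_succ]; exact Nat.mul_le_mul_right _ h4) a1 a4
      fun a5 => comm_dom a5 (dom a1 a2 a3)
  have hN := nz_final (R := ⊥) (a := a) (A := (PG chevF4 F).UJ {nd 3}ᶜ ⊓ stabilizer _ a) (fun x => by simp)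
    (by simpa using h8) hVQ (fun x hx y hy => hZ (hi.comm_Q hx hy)) (UJ_le_PJ _ _) (nz_bot _) hQ
    ((nzB (by decide +kernel)).sup (nz_of_le ((Subgroup.closure_le _).2 (by
      rintro _ ⟨i, hi, rfl⟩
      exact n_mem i ((by decide +kernel : ∀ i < 4, i ≠ 3 → ∀ s ∈ vL, chevF4.reflectRoot i s ∈ vL) i i.2
        fun e => hi (Fin.ext e))))))
  obtain ⟨y, hy, hy1⟩ := (Subgroup.bot_or_exists_ne_one ((PG chevF4 F).UJ {nd 3}ᶜ ⊓ stabilizer _ a)).resolve_left fun e => by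
    have := ob_mul_st ((PG chevF4 F).UJ {nd 3}ᶜ) a
    rw [h8.ob_eq, h7, card_Q, st, e, Subgroup.card_bot, mul_one] at this
    have := Nat.pow_right_injective hq this
    omega
  have s2 : Sub [25, 30, 41] qL qL := by decide +kernel
  have s3 : Sub [25, 30, 41] vL vL := by decide +kernel
  obtain ⟨u, hu, hu1, z, hz, h9⟩ := raise2 (γ := rt 46) (Δ := ls [25, 30, 41]) hP s1.posl s1.sub
    (fun r hr => (by decide : vL ⊆ qL) hr) (fun δ hδ => ⟨s2.posl δ hδ, s2.sub δ hδ, s3.sub δ hδ⟩)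
    (fun δ hδ => hN.mono ((X_le_U _ (s2.posl δ hδ)).trans (U_le_PJ _ _)))
    (fun s c1 c2 c3 => Fin.ext ((by decide +kernel : ∀ s ∈ qL, s ∉ vL → sumLt 4 (rcN chevF4 46) ≤ sumLt 4 (rcN chevF4 s) →
      s = 46) s c1 c2 (by rwa [ht_eq, ht_eq] at c3))) (fun β c1 c2 => by
      refine ((by decide +kernel : ∀ β ∈ qL, β ∉ vL → β = 46 ∨ ∃ δ ∈ [25, 30, 41], δ < 48 ∧ ∃ α ∈ qL, α < 48 ∧ α ∉ vL ∧
        (∀ i < 4, rcN chevF4 α i = rcN chevF4 δ i + rcN chevF4 β i) ∧ Lx δ β α vL) β c1 c2).imp Fin.ext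
        fun ⟨δ, d1, d2, α, d3, d4, d5, d6, d7⟩ => ⟨⟨δ, d2⟩, d1, ⟨α, d4⟩, d3, d5, funext fun i => d6 i i.2, Lx.lx d7⟩)
    (Subgroup.mem_sup_left hy) (Q_eq (F := F) ▸ hy.1) fun e => hy1 (hAV y hy e)
  have n46 := ir_PG _ _ (hN.mono ((H_le_B _).trans (B_le_PJ _ _))) u hu hu1
    ((Subgroup.mul_mem_cancel_right _ (Subgroup.mem_sup_right hz)).1 h9)
  have k : ∀ i, i ≠ nd 3 → (PG chevF4 F).n i ∈ (PG chevF4 F).PJ {nd 3}ᶜ := fun i hi => NJ_le_PJ _ _ (n_mem_NJ _ hi)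
  have n24 := xn hN (k (nd 2) (by decide)) (rt 24) (xn hN (k (nd 1) (by decide)) (rt 26) (xn hN (k (nd 2) (by decide)) (rt 31)
    (xn hN (k (nd 0) (by decide)) (rt 32) (xn hN (k (nd 1) (by decide)) (rt 43) (xn hN (k (nd 2) (by decide)) (rt 45) n46)))))
  refine hP.X_ne_bot (rt 47) (le_bot_iff.1 ((Lx.lx (r := rt 24) (s := rt 46) (T := []) (by decide +kernel)).le hP
    (fun u hu x hx => ?_) (by simp [ls])))
  simpa [commutatorElement_def] using commutatorElement_eq_one_iff_commute.2 (commute_sup inf_le_left hc hVQ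
    (fun x hx y hy => hZ (hi.comm_Q hx hy)) hAV (inv_mem (n46 hu)) (inv_mem (n24 hx)))

end F4

theorem not_B_F4 {F : Type*} [Field F] [Finite F] {Ω : Type*} [MulAction (Lie.chevF4.group F) Ω] [Finite Ω] [Nontrivial Ω]
    [FaithfulSMul (Lie.chevF4.group F) Ω] (h2 : T2.Two (Lie.chevF4.group F) Ω) :
    ¬ ∀ a b : Ω, ∃ g ∈ (ChevM.PG Lie.chevF4 F).B, g • a = b := by
  by_cases h : ringChar F = 2
  · have : CharP F 2 := ringChar.of_eq h
    exact F4.even h2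
  · exact F4.odd (Ring.two_ne_zero h) h2

end Cfsg.Agent.T2X
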