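import Cfsg.Agent.Lib.T2X.D
import Cfsg.Agent.S2341

/-! The groups of type `E₆`, `E₇`, `E₈`, `²E₆`. -/

set_option autoImplicit false
set_option linter.unusedSectionVars false

namespace Cfsg.Agent.T2X

open MulAction Finset T2 Chev RD RSys PreRGD ChevM _root_.Cfsg.Lie

theorem ineq {q M S : ℕ} (hq : 1 < q) (hM : 0 < M) (h : q * S + 1 < q * M + S) :
    S < q * M ∧ (q * M * q - 1) * S < (q * M - 1) * (q * M + S) := by
  have h1 : 1 ≤ q * M := Nat.mul_pos (by omega) hM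
  have h2 : 1 ≤ q * M * q := Nat.mul_pos h1 (by omega)
  refine ⟨by nlinarith, ?_⟩
  have h3 := Nat.mul_lt_mul_of_pos_left h h1
  zify [h1, h2] at h3 ⊢
  linarith

section fold
variable {D D' : ChevalleyDatum} [Tab D] [Tab D'] {T : TwData} {k : ℕ} {f ψ rep : ℕ → ℕ}
  {K G : Type*} [Field K] [Finite K] [Group G] {x : ℕ → K → G} {φ : K →+* K} {σ : G →* G}
  (C : FoldOK D D' T k f ψ rep) (h : IsTw D T x φ σ) (P : Per D T k) {Γ : Type*} [Group Γ] [Finite Γ] {e : Γ →* G}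
  (E : h.fold.Emb e) (hφk : ∀ t, φ^[k] t = t)
include P hφk

theorem ir_fm (L : LD ((C.fm h).pre E)) : IR ((C.fm h).pre E) := fun δ A hA y => by
  by_cases hδ : Lg (rs D') δ
  · exact ir_of_lg L hδ hA
  obtain ⟨r, rfl⟩ := (C.fm h).surj δ
  have hr := kr_ne (k := k) (mt (C.lg_fm h).2 hδ)
  have hr' : kr T k ((rs D).neg r) = k := kr_ne fun e => mt (C.lg_fm h).2 hδ
    (by simpa [neg_neg_idx r.2, neg_neg_idx (h.tw.lt r r.2)] using
      congrArg D.neg ((h.tw.neg r r.2).symm.trans e))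
  have hY : ∀ r : Fin D.nroots, kr T k r = k → e ∘ h.Y E r k = fun t => dl σ k (x r t) :=
    fun r e => funext fun t => by
      simpa [e] using h.map_Y' P E r (t := t) (by rw [Chev.mem_Fx, e]; exact hφk t)
  have hk := hr ▸ h.orbOK P r
  have h0 : ∀ t, e (h.Y E r k t) = dl σ k (x r t) := congrFun (hY r hr)
  refine ir_of_sq (Y := h.Y E r k) (fun g => ?_) (fun t u => E.inj ?_) (fun t ht => ?_) hA
  · rw [C.mem_X h P E, hr]
    exact ⟨fun ⟨t, _, c⟩ => ⟨t, E.inj (c.trans (h0 t).symm)⟩,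
      fun ⟨t, c⟩ => ⟨t, by rw [Chev.mem_Fx, hr]; exact hφk t, c ▸ h0 t⟩⟩
  · rw [map_mul, h0, h0, h0, (h.sl2d_dl hk).x_add]
  · have h4 : e (sl2h (h.Y E r k) (h.Y E ((rs D).neg r) k) t) = dl σ k (hElt D x r t) := by
      rw [map_sl2h, hY r hr, hY _ hr', h.sl2h_dl hk]
    refine ⟨_, ((C.fm h).mem_H E).2 (h4 ▸ dl_mem' h.fold.σ_H k (h_mem_HS r ht)), fun u => E.inj ?_⟩
    have h7 := ((h.sl2d_dl hk).acts_h ht).2.1 u
    rw [h.sl2h_dl hk] at h7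
    rw [map_mul, map_mul, map_inv, h4, h0, h0, h7]

end fold

theorem not_dvd_comap {G Γ : Type*} [Group G] [Group Γ] {e : Γ →* G} (he : Function.Injective e) {H : Subgroup G}
    {p : ℕ} (h : ¬ p ∣ Nat.card H) : ¬ p ∣ Nat.card (H.comap e) := fun c =>
  h (c.trans (Subgroup.card_comap_dvd_of_injective H e he))

variable {D : ChevalleyDatum} [Tab D] {Γ : Type*} [Group Γ] [Finite Γ]
  {Ω : Type*} [MulAction Γ Ω] [Finite Ω] [Nontrivial Ω] [FaithfulSMul Γ Ω]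

variable (D) in
/-- the combinatorial data for a group with long roots of length `c` and short root subgroups of order `q ^ k` -/
def XOK (θ j : ℕ) (c : ℤ) (k m : ℕ) (e : ℕ → ℕ) (l : List ℕ) : Prop :=
  (∀ s < D.nroots, s ≠ θ → D.pairing θ s ≤ 1) ∧ (∀ i < D.rank, D.pairing θ (D.simple i) = if i = j then 1 else 0) ∧
  D.cartan j θ = 1 ∧
  (∀ k < D.nroots, sumLt D.rank (rcN D θ) ≤ sumLt D.rank (rcN D k) + 1 → k = θ ∨ k = D.reflectRoot j θ) ∧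
  len D θ = c ∧ e θ = 0 ∧ (∀ r < D.nroots, len D r = len D θ → r = θ ∨ ∃ i < D.rank, D.cartan i r < 0 ∧
    e r = (if len D (D.simple i) = c then 1 else k) + e (D.reflectRoot i r)) ∧
  ((List.range D.nroots).filter fun r => len D r = len D θ).map e = l ∧
  sumLt D.nroots (fun r => if 0 < rcN D r j then if len D r = c then 1 else k else 0) = 2 * m + 1 ∧
  ∀ i < D.rank, i = j ∨ len D (D.simple i) ≠ c ∨ ∃ i' < D.rank, i' ≠ j ∧ D.cartan i' (D.simple i) < 0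

set_option synthInstance.maxSize 2000 in
instance decXOK (θ j : ℕ) (c : ℤ) (k m : ℕ) (e : ℕ → ℕ) (l : List ℕ) : Decidable (XOK D θ j c k m e l) := by
  unfold XOK; infer_instance

namespace XOK
variable {θ : Fin D.nroots} {j : Fin D.rank} {c : ℤ} {k m : ℕ} {e : ℕ → ℕ} {l : List ℕ} (X : XOK D θ j c k m e l)
  {P : PreRGD (rs D) Γ} (hP : P.Nondeg) {q : ℕ}
  (hc : ∀ r, Nat.card (P.X r) = q ^ if len D r = c then 1 else k)
include X

theorem hi : Hi (rs D) θ j := hi_D X.1 X.2.1 X.2.2.1 X.2.2.2.1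

include hc

theorem card_θ : Nat.card (P.X θ) = q := by rw [hc, if_pos X.2.2.2.2.1, pow_one]

include hP

theorem index (hf : P.full = ⊤) : (P.PJ {j}ᶜ).index = (l.map (q ^ ·)).sum := by
  rw [index_D hP hf X.hi.pr (c := fun i => if len D (D.simple i) = c then 1 else k) (fun i => hc _) X.2.2.2.2.2.1
    X.2.2.2.2.2.2.1, ← X.2.2.2.2.2.2.2.1, List.map_map]
  rfl

theorem card_Q : Nat.card (P.UJ {j}ᶜ) = q ^ (2 * m + 1) := by
  rw [card_Q_pow hP hc]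
  congr 1
  have := X.2.2.2.2.2.2.2.2.1
  rw [sumLt_eq_fin] at this
  rw [sum_filter]
  exact_mod_cast this

theorem not_trs (hf : P.full = ⊤) (L : LD P) (hI : IR P) (hq : IsPrimePow q) (hH : ∀ p, p.Prime → p ∣ q → ¬ p ∣ Nat.card P.H)
    (h2 : Two Γ Ω) (hm : m ≠ 1) (hk : 1 ≤ k) (hl : ∀ r : Fin D.nroots, len D r = c → Lg (rs D) r) {S : ℕ}
    (hS : q * S + 1 < q * q ^ m + S) (hi : (l.map (q ^ ·)).sum * (q - 1) = (q ^ (m + 2) - 1) * S)
    (hd : ∀ r, (rs D).IsPos r → len D r ≠ c → q < Nat.card (P.X r) ∨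
      ∃ x ∈ P.X r, x ≠ 1 ∧ ∃ u ∈ P.U, ∃ v ∈ P.U, x = u * v * u⁻¹ * v⁻¹)
    (hr : ∀ β, (rs D).rc β j = 1 → β = (rs D).sref j θ ∨ ∃ δ, (rs D).IsPos δ ∧ ∃ α, (rs D).rc α j = 1 ∧
      (rs D).rc α = (rs D).rc δ + (rs D).rc β ∧ ∀ a ∈ P.X β, a ≠ 1 → ∃ x ∈ P.X δ, ∃ z ∈ P.X α, z ≠ 1 ∧
        z⁻¹ * (x * a * x⁻¹ * a⁻¹) ∈ P.US {s | 0 < (rs D).rc s j ∧ s ≠ α ∧ (rs D).ht β < (rs D).ht s}) :
    ¬ Trs Ω P.B := by
  obtain ⟨p, n, hp, hn, rfl⟩ := (isPrimePow_nat_iff q).mp hq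
  have := Fact.mk hp
  obtain ⟨h3, h4⟩ := ineq hq.one_lt (pow_pos hq.pos m) hS
  rw [← pow_succ'] at h3 h4
  rw [← pow_succ] at h4
  refine X.hi.not_trs hP L hI (fun r => ⟨_, by rw [hc, ← pow_mul]⟩) (hH p hp (dvd_pow_self p hn.ne')) h2 (X.card_θ hc)
    (fun r => hc r ▸ Nat.le_self_pow (by split_ifs <;> omega) _) hm (X.card_Q hP hc) h3 (X.index hP hc hf ▸ hi) h4
    (fun r h5 h6 h7 => ?_) hr
  by_cases h8 : len D r = c
  · refine Or.inr (comm_of_lg L (hl r h8) h5 fun h9 => ?_)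
    obtain ⟨i, rfl⟩ := h5.eq_simple_of_ht h9
    rcases X.2.2.2.2.2.2.2.2.2 i i.2 with e | e | ⟨i', a, b, c⟩
    · rw [← Fin.ext e, (rs D).rc_simple, Pi.single_eq_same] at h6; omega
    · exact e h8
    · exact (h7 ⟨i', a⟩ fun e => b (congrArg Fin.val e)).not_gt (by rwa [rs_pair_simple])
  · exact hd r h5 h8

end XOK

variable {F : Type*} [Field F] [Finite F]

theorem primePow_card (F : Type*) [Field F] [Finite F] : IsPrimePow (Nat.card F) := by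
  have := Fintype.ofFinite F
  exact Nat.card_eq_fintype_card (α := F) ▸ FiniteField.isPrimePow_card F

theorem not_dvd_H (p : ℕ) (hp : p.Prime) (h : p ∣ Nat.card F) : ¬ p ∣ Nat.card (PG D F).H := by
  have := Fintype.ofFinite F
  obtain ⟨p', hc, m, hp', e⟩ := FiniteField.card' F
  rw [Nat.card_eq_fintype_card, e] at h
  obtain rfl := (Nat.prime_dvd_prime_iff_eq hp hp').1 (hp.dvd_of_dvd_pow h)
  have := Fact.mk hp
  exact not_dvd_card_H p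

/-- the level of a root in a simply laced system -/
def lv (D : ChevalleyDatum) (r : ℕ) : ℕ :=
  (sumLt D.rank (rcN D (D.nroots - 1)) - sumLt D.rank (rcN D r) - if D.nroots ≤ 2 * r then 0 else 1).toNat

theorem sl_not_trs [SLaced D] {Ω : Type*} [MulAction (D.group F) Ω] [Finite Ω] [Nontrivial Ω]
    [FaithfulSMul (D.group F) Ω] (h2 : Two (D.group F) Ω) {θ : Fin D.nroots} {j : Fin D.rank} {m : ℕ} {l : List ℕ}
    (X : XOK D θ j 1 1 m (lv D) l) (h1 : ∀ r < D.nroots, len D r = 1 ∧ (rcN D r j = 1 → r = D.reflectRoot j θ ∨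
      ∃ i < D.rank, i ≠ j ∧ D.cartan i r = -1)) (hm : m ≠ 1) {S : ℕ → ℕ}
    (hS : ∀ q, 2 ≤ q → q * S q + 1 < q * q ^ m + S q ∧ (l.map (q ^ ·)).sum * (q - 1) = (q ^ (m + 2) - 1) * S q) :
    ¬ ∀ a b : Ω, ∃ g ∈ (PG D F).B, g • a = b := by
  have hq := primePow_card F
  refine X.not_trs (nondeg D F) (fun r => by simp [card_X]) PG_full ld_sl ir_PG hq not_dvd_H h2 hm le_rfl
    (fun r _ => lg_sl r) (hS _ hq.two_le).1 (hS _ hq.two_le).2 (fun r _ h => absurd (h1 r r.2).1 h) fun β hβ => ?_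
  refine ((h1 β β.2).2 hβ).imp (fun e => Fin.ext (e.trans (reflectRoot_eq _ _))) fun ⟨i, a, b, c⟩ => ?_
  rw [← rs_pair_simple ⟨i, a⟩] at c
  have h3 : (rs D).rc ((rs D).sref ⟨i, a⟩ β) = (rs D).rc ((rs D).simple ⟨i, a⟩) + (rs D).rc β := by
    rw [rc_sref, c, (rs D).rc_simple]; simp [add_comm]
  refine ⟨_, (rs D).isPos_simple ⟨i, a⟩, _, ?_, h3, raise_of_lg ld_sl (lg_sl _) h3 ?_ _⟩
  · rw [h3, Pi.add_apply, hβ, (rs D).rc_simple, Pi.single_eq_of_ne fun e => b (congrArg Fin.val e).symm, zero_add]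
  · rw [SLaced.pair_comm, pair_add h3, c, pair_self]; rfl

/-- the level of a root -/
def lw (D : ChevalleyDatum) (c : ℤ) (k r : ℕ) : ℕ := (((List.range D.nroots).filter fun s =>
  D.nroots ≤ 2 * s ∧ D.pairing r s < 0).map fun s => if len D s = c then 1 else k).sum

set_option synthInstance.maxSize 4000 in
theorem raise_F4 {P : PreRGD (rs chevF4) Γ} (L : LD P) (β : Fin chevF4.nroots) (hβ : (rs chevF4).rc β ⟨3, by decide⟩ = 1) :
    β = (rs chevF4).sref ⟨3, by decide⟩ ⟨47, by decide⟩ ∨ ∃ δ, (rs chevF4).IsPos δ ∧ ∃ α,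
      (rs chevF4).rc α ⟨3, by decide⟩ = 1 ∧ (rs chevF4).rc α = (rs chevF4).rc δ + (rs chevF4).rc β ∧
      ∀ a ∈ P.X β, a ≠ 1 → ∃ x ∈ P.X δ, ∃ z ∈ P.X α, z ≠ 1 ∧ z⁻¹ * (x * a * x⁻¹ * a⁻¹) ∈
        P.US {s | 0 < (rs chevF4).rc s ⟨3, by decide⟩ ∧ s ≠ α ∧ (rs chevF4).ht β < (rs chevF4).ht s} := by
  refine ((by decide +kernel : ∀ β < 48, rcN chevF4 β 3 = 1 → β = chevF4.reflectRoot 3 47 ∨ ∃ δ < 48, 48 ≤ 2 * δ ∧
    ∃ α < 48, rcN chevF4 α 3 = 1 ∧ (∀ i < 4, rcN chevF4 α i = rcN chevF4 δ i + rcN chevF4 β i) ∧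
      (∀ s < 48, s ≠ α → chevF4.pairing α s ≤ 1) ∧ chevF4.pairing α δ = 1) β β.2 hβ).imp
    (fun e => Fin.ext (e.trans (reflectRoot_eq ⟨3, _⟩ ⟨47, _⟩))) fun ⟨δ, a, b, α, c, d, e, f, g⟩ => ?_
  have h : (rs chevF4).rc ⟨α, c⟩ = (rs chevF4).rc ⟨δ, a⟩ + (rs chevF4).rc β := funext fun i => e i i.2
  exact ⟨⟨δ, a⟩, (rs_isPos_iff_le _).2 b, ⟨α, c⟩, d, h, raise_of_lg L ((lg_iff (r := ⟨α, c⟩)).2 f) h ((rs_pair _ _).trans g) _⟩

theorem not_B_tw6 {P : PreRGD (rs chevF4) Γ} {q : ℕ} (W : TW P q 2 2) (hP : P.Nondeg) (hf : P.full = ⊤) (hI : IR P)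
    (hq : IsPrimePow q) (hH : ∀ p, p.Prime → p ∣ q → ¬ p ∣ Nat.card P.H) (h2 : Two Γ Ω) : ¬ Trs Ω P.B := by
  have X : XOK chevF4 47 3 2 2 10 (lw chevF4 2 2)
    [21, 20, 19, 17, 16, 15, 15, 14, 13, 12, 11, 11, 10, 10, 9, 8, 7, 6, 6, 5, 4, 2, 1, 0] := by decide +kernel
  have h1 := hq.two_le
  refine XOK.not_trs (θ := ⟨47, by decide⟩) (j := ⟨3, by decide⟩) X hP W.card hf W.ld hI hq hH h2 (by decide) (by decide)
    (fun r => (W.lg r).2) (S := (q ^ 4 + 1) * (q ^ 6 - q ^ 3 + 1)) ?_ ?_ (fun r _ h => Or.inl ?_) (raise_F4 W.ld)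
  · obtain ⟨s, rfl⟩ := Nat.exists_eq_add_of_le h1
    zify [Nat.pow_le_pow_right (by omega : 0 < 2 + s) (by norm_num : 3 ≤ 6)]
    rw [← sub_pos]
    ring_nf
    positivity
  · simp only [List.map, List.sum_cons, List.sum_nil]
    zify [one_le_two.trans h1, fun k => Nat.one_le_pow k q hq.pos, Nat.pow_le_pow_right hq.pos (by norm_num : 3 ≤ 6)]
    ring
  · rw [W.card, if_neg h]
    nlinarith

theorem not_dvd_H' {K : Type*} [Field K] [Finite K] {q k : ℕ} (hK : Nat.card K = q ^ k) (hk : k ≠ 0) {e : Γ →* D.group K}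
    (he : Function.Injective e) (p : ℕ) (hp : p.Prime) (h : p ∣ q) : ¬ p ∣ Nat.card ((PG D K).H.comap e) :=
  not_dvd_comap he (not_dvd_H p hp (hK ▸ h.trans (dvd_pow_self q hk)))

theorem not_B_tE6 {K : Type*} [Field K] [Fintype K] {q : ℕ} (hq : IsPrimePow q) (hK : Fintype.card K = q ^ 2)
    {φ : K →+* K} (hφ : ∀ t, φ t = t ^ q) (hφk : ∀ t, φ^[2] t = t) {Ω : Type*} [MulAction (twistedE6 K q) Ω] [Finite Ω]
    [Nontrivial Ω] [FaithfulSMul (twistedE6 K q) Ω] (h2 : Two (twistedE6 K q) Ω) : ¬ ∀ a b : Ω,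
      ∃ g ∈ ((S2341.fold.fm (isTw_adj (twOK_E6 K) φ)).pre (emb_twistedE6 φ hφ hφk)).B, g • a = b := by
  rw [← Nat.card_eq_fintype_card] at hK
  have E := emb_twistedE6 φ hφ hφk
  have W := S2341.fold.tw _ per_E6 E (range_twistedE6 φ hφ hφk).le hφ hφk hK hq.one_lt le_rfl (c := 2)
    (by decide +kernel) (by decide +kernel)
  exact not_B_tw6 W (FoldMap.pre_nondeg _ E) (FoldMap.pre_full _ E) (ir_fm _ _ per_E6 E hφk W.ld) hq
    (not_dvd_H' hK two_ne_zero E.inj) h2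

end Cfsg.Agent.T2X
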