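import Cfsg.Agent.Lib.T2X.E

/-! More general forms of the raising and clearing lemmas. -/

set_option autoImplicit false
set_option linter.unusedSectionVars false

namespace Cfsg.Agent.T2X

open MulAction Finset T2 Chev RD RSys PreRGD

variable {ι I : Type*} [Fintype I] [DecidableEq I] [Fintype ι] [DecidableEq ι] {R : RSys ι I}
  {G : Type*} [Group G] [Finite G] {P : PreRGD R G} {θ α β γ δ r s k : ι} {i j : I} {x y z : G}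
  {S T Δ : Set ι} {A M N Q K X Y Z : Subgroup G} {J : Set I}

variable (P) in
/-- the leading term of a commutator -/
def LX (δ β α : ι) (T : Set ι) : Prop :=
  ∀ a ∈ P.X β, a ≠ 1 → ∀ z ∈ P.X α, ∃ x ∈ P.X δ, z⁻¹ * (a⁻¹ * x⁻¹ * a * x) ∈ P.US T

theorem LX.le (h : LX P δ β α T) (hP : P.Nondeg) (hM : ∀ a ∈ P.X β, ∀ x ∈ P.X δ, a⁻¹ * x⁻¹ * a * x ∈ M)
    (hT : ∀ s ∈ T, P.X s ≤ M) : P.X α ≤ M := fun z hz => by
  obtain ⟨a, ha, ha1⟩ := hP.exists_ne_one β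
  obtain ⟨x, hx, e⟩ := h a ha ha1 z hz
  simpa [mul_assoc] using mul_mem (hM a ha x hx) (inv_mem (USub_le_iff.2 hT e))

theorem lead2 (hT : R.Closed T) (hy' : y ∉ P.US T) : ∀ S : Set ι, R.Closed S →
    (∀ r ∈ S, R.IsPos r) → y ∈ P.US S → ∃ β ∈ S, β ∉ T ∧ ∃ a ∈ P.X β, a ≠ 1 ∧
      ∃ b ∈ P.US {s | s ∈ S ∧ s ≠ β ∧ (s ∈ T ∨ R.ht β ≤ R.ht s)}, y = a * b := by
  intro S
  induction hn : S.ncard using Nat.strong_induction_on generalizing S with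
  | _ n ih =>
  intro h1 h2 hy
  obtain ⟨β, ⟨h4, h5⟩, h6⟩ := Set.exists_min_image (S \ T) R.ht (Set.toFinite _) (Set.nonempty_iff_ne_empty.2
    fun e => hy' (USub_mono (Set.sdiff_eq_empty.1 e) hy))
  obtain ⟨a, ha, b, hb, e⟩ := split h2 h1 h4 hy
  have h7 : ∀ s ∈ S, s ∈ T ∨ R.ht β ≤ R.ht s := fun s hs => or_iff_not_imp_left.2 fun e => h6 s ⟨hs, e⟩
  by_cases ha1 : a = 1
  · obtain ⟨β', c1, c2, a, c3, c4, b, c5, c6⟩ := ih _ (hn ▸ Set.ncard_sdiff_singleton_lt_of_mem h4) (S \ {β}) rfl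
      (fun r hr s hs k hk => ⟨h1 r hr.1 s hs.1 hk, by
        rintro rfl
        have := ht_lt_of_intv (h2 r hr.1) (h2 s hs.1) hk
        have := (h2 r hr.1).ht_pos
        have := (h2 s hs.1).ht_pos
        rcases h7 s hs.1 with e | e
        · rcases h7 r hr.1 with e' | e'
          · exact h5 (hT r e' s e hk)
          · omega
        · omega⟩) (fun r hr => h2 r hr.1) (by rwa [e, ha1, one_mul])
    exact ⟨β', c1.1, c2, a, c3, c4, b, US_mono c5 fun s hs => ⟨hs.1.1, hs.2⟩, c6⟩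
  · exact ⟨β, h4, h5, a, ha, ha1, b, US_mono hb fun s hs => ⟨hs.1, hs.2, h7 s hs.1⟩, e⟩

theorem eq_of_intv (hδ : R.IsPos δ) (hs : R.IsPos s) (h : R.rc α = R.rc δ + R.rc β) (h' : R.ht β ≤ R.ht s)
    (hk : α ∈ R.intv δ s) : s = β := by
  obtain ⟨m, n, hm, hn, e⟩ := hk
  have c6 : R.ht α = R.ht δ + R.ht β := by rw [ht, h, map_add]; rfl
  have c7 := hδ.ht_pos
  have d6 := R.ht_comb e
  have d7 := hs.ht_pos
  have d8 : 0 ≤ ((m : ℤ) - 1) * R.ht δ := mul_nonneg (by omega) c7.le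
  have d9 : 0 ≤ ((n : ℤ) - 1) * R.ht s := mul_nonneg (by omega) d7.le
  obtain rfl : m = 1 := by
    have : ((m : ℤ) - 1) * R.ht δ = 0 := by linarith
    rcases mul_eq_zero.1 this with e | e <;> omega
  obtain rfl : n = 1 := by
    have : ((n : ℤ) - 1) * R.ht s = 0 := by linarith
    rcases mul_eq_zero.1 this with e | e <;> omega
  exact R.rc_inj (by simpa [h] using e.symm)

theorem raise2 (hP : P.Nondeg) (hS : ∀ r ∈ S, R.IsPos r) (hST : ∀ r ∈ S, ∀ s ∈ S, R.intv r s ⊆ T) (hTS : ∀ r ∈ T, r ∈ S)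
    (hΔ : ∀ δ ∈ Δ, R.IsPos δ ∧ (∀ s ∈ S, R.intv δ s ⊆ S) ∧ ∀ s ∈ T, R.intv δ s ⊆ T) (hN : ∀ δ ∈ Δ, Nz (P.X δ) N)
    (hγ : ∀ s ∈ S, s ∉ T → R.ht γ ≤ R.ht s → s = γ)
    (hr : ∀ β ∈ S, β ∉ T → β = γ ∨ ∃ δ ∈ Δ, ∃ α ∈ S, α ∉ T ∧ R.rc α = R.rc δ + R.rc β ∧ LX P δ β α T)
    (hy : y ∈ N) (hy1 : y ∈ P.US S) (hy2 : y ∉ P.US T) : ∃ a ∈ P.X γ, a ≠ 1 ∧ ∃ b ∈ P.US T, a * b ∈ N := by
  have hT : R.Closed T := fun r hr s hs => hST r (hTS r hr) s (hTS s hs)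
  have d0 : ∀ T' : Set ι, (∀ r ∈ T, r ∈ T') → (∀ r ∈ T', r ∈ S) → Nz (P.US S) (P.US T') := fun T' h1 h2 =>
    nz_US hS (fun r hr => hS r (h2 r hr)) fun r hr s hs k hk => h1 k (hST r hr s (h2 s hs) hk)
  have key : ∀ β, β ∈ S → β ∉ T → ∀ a ∈ P.X β, a ≠ 1 →
      ∀ b ∈ P.US {s | s ∈ S ∧ s ≠ β ∧ (s ∈ T ∨ R.ht β ≤ R.ht s)}, a * b ∈ N →
      ∃ a ∈ P.X γ, a ≠ 1 ∧ ∃ b ∈ P.US T, a * b ∈ N := by
    refine ht_ind R fun β ih h1 h2 a ha ha1 b hb hab => ?_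
    rcases hr β h1 h2 with rfl | ⟨δ, c0, α, c2, c8, c3, c4⟩
    · exact ⟨a, ha, ha1, b, US_mono hb fun s hs => by_contra fun e =>
        hs.2.1 (hγ s hs.1 e (hs.2.2.resolve_left e)), hab⟩
    obtain ⟨c1, c9, c10⟩ := hΔ δ c0
    obtain ⟨z, hz, hz1⟩ := hP.exists_ne_one α
    obtain ⟨x, hx, c5⟩ := c4 a ha ha1 z hz
    have c6 : R.ht α = R.ht δ + R.ht β := by rw [ht, c3, map_add]; rfl
    have c7 := c1.ht_pos
    let T' := {s | s ∈ S ∧ s ≠ α ∧ (s ∈ T ∨ R.ht β < R.ht s)}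
    have hθ : ∀ r ∈ T, r ∈ T' := fun r hr => ⟨hTS r hr, fun e => c8 (e ▸ hr), Or.inl hr⟩
    have hT' : ∀ r ∈ T', R.IsPos r := fun r hr => hS r hr.1
    have d1 := d0 T' hθ fun r hr => hr.1
    have d2 : ∀ s ∈ S, s ≠ β → (s ∈ T ∨ R.ht β ≤ R.ht s) → R.intv δ s ⊆ T' := fun s d2 d3 d4 k hk => by
      rcases d4 with d4 | d4
      · exact hθ k (c10 s d4 hk)
      · have d5 := ht_lt_of_intv c1 (hS s d2) hk
        exact ⟨c9 s d2 hk, fun e => d3 (eq_of_intv c1 (hS s d2) c3 d4 (e ▸ hk)), Or.inr (by omega)⟩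
    have d3 : Nz (P.US {δ}) (P.US T') := nz_US (by simpa using c1) hT' (by
      rintro _ rfl s hs
      exact d2 s hs.1 (fun e => hs.2.2.elim (fun e' => h2 (e ▸ e')) fun e' => (e ▸ e').false) (hs.2.2.imp_right le_of_lt))
    have hb' : b ∈ P.US S := US_mono hb fun s hs => hs.1
    have d4 := comm_mem (S := {s | s ∈ S ∧ s ≠ β ∧ (s ∈ T ∨ R.ht β ≤ R.ht s)}) d3
      (d1.mono fun y hy => US_mono hy fun s hs => hs.1) (by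
      rintro _ rfl s hs
      exact ⟨ne_neg_of_pos (hS s hs.1) c1, fun k hk => le_USub (d2 s hs.1 hs.2.1 hs.2.2 hk)⟩)
      (mem_USub (Set.mem_singleton δ) (inv_mem hx)) (inv_mem hb)
    have d7 := comm_mem d1 d1 (fun r hr s hs => ⟨ne_neg_of_pos (hS s hs) (hS r hr), fun k hk =>
      le_USub (hθ k (hST r hr s hs hk))⟩) (inv_mem (mem_USub c2 hz)) (inv_mem hb')
    have d5 := mul_mem (mul_mem d7 (d1.inv hb' (US_mono c5 hθ))) (inv_mem d4)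
    have d6 : (a * b)⁻¹ * (x⁻¹ * (a * b) * x) ∈ N := mul_mem (inv_mem hab) ((hN δ c0).inv hx hab)
    rw [show z⁻¹ * b⁻¹ * z⁻¹⁻¹ * b⁻¹⁻¹ * (b⁻¹ * (z⁻¹ * (a⁻¹ * x⁻¹ * a * x)) * b) * (x⁻¹ * b⁻¹ * x⁻¹⁻¹ * b⁻¹⁻¹)⁻¹ =
      z⁻¹ * ((a * b)⁻¹ * (x⁻¹ * (a * b) * x)) by group] at d5
    generalize (a * b)⁻¹ * (x⁻¹ * (a * b) * x) = w at d5 d6
    obtain ⟨β', e1, e2, a', e3, e4, b', e5, rfl⟩ := lead2 (y := w) hT (fun e => hz1 (hP.eq_one_of_mem_X_US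
        (hS α c2) hT' (fun r hr s hs k hk => hθ k (hST r hr.1 s hs.1 hk)) (fun e => e.2.1 rfl)
        hz (by simpa using inv_mem (mul_mem d5 (inv_mem (US_mono e hθ))))))
      {s | s ∈ S ∧ (s ∈ T ∨ R.ht β < R.ht s)}
      (fun r hr s hs k hk => ⟨hTS k (hST r hr.1 s hs.1 hk), Or.inl (hST r hr.1 s hs.1 hk)⟩) (fun r hr => hS r hr.1) (by
        simpa using mul_mem (mem_USub (S := {s | s ∈ S ∧ (s ∈ T ∨ R.ht β < R.ht s)}) ⟨c2, Or.inr (by omega)⟩ hz)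
          (US_mono d5 fun s hs => ⟨hs.1, hs.2.2⟩))
    exact ih β' (e1.2.resolve_left e2) e1.1 e2 a' e3 e4 b' (US_mono e5 fun s hs => ⟨hs.1.1, hs.2⟩) d6
  obtain ⟨β, e1, e2, a, e3, e4, b, e5, rfl⟩ := lead2 hT hy2 S (fun r hr s hs k hk => hTS k (hST r hr s hs hk)) hS hy1
  exact key β e1 e2 a e3 e4 b e5 hy

theorem step (hS : ∀ r ∈ insert β (insert α T), R.IsPos r)
    (hc : ∀ r ∈ insert β (insert α T), ∀ s ∈ insert β (insert α T), R.intv r s ⊆ T)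
    (h1 : LX P (R.simple i) β α T) (h2 : ∀ x ∈ P.X (R.simple i), ∀ s ∈ insert α T, ∀ z ∈ P.X s, z⁻¹ * x⁻¹ * z * x ∈ P.US T)
    (h3 : R.sref i β = α) (h4 : ∀ s ∈ T, R.sref i s ∈ T) (hK : P.X (R.simple i) ≤ K) (hK' : P.n i ∈ K)
    (hy : y ∈ P.US (insert β (insert α T))) : ∃ g ∈ K, g * y * g⁻¹ ∈ P.US (insert α T) := by
  obtain ⟨a, ha, b, hb, rfl⟩ := split hS (fun r hr s hs k hk => Or.inr (Or.inr (hc r hr s hs hk))) (Or.inl rfl) hy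
  have hb' : b ∈ P.US (insert α T) := US_mono hb fun s hs => hs.1.resolve_left hs.2
  by_cases ha1 : a = 1
  · exact ⟨1, one_mem _, by simpa [ha1] using hb'⟩
  clear hb
  obtain ⟨z, hz, b, hb, rfl⟩ := split (fun r hr => hS r (Or.inr hr))
    (fun r hr s hs k hk => Or.inr (hc r (Or.inr hr) s (Or.inr hs) hk)) (Or.inl rfl) hb'
  have hb'' : b ∈ P.US T := US_mono hb fun s hs => hs.1.resolve_left hs.2
  obtain ⟨x, hx, e⟩ := h1 a ha ha1 _ (inv_mem hz)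
  have h5 : Nz (P.US {α}) (P.US T) := nz_US (by simpa using hS α (by simp)) (fun r hr => hS r (by simp [hr])) (by
    rintro _ rfl s hs
    exact hc _ (by simp) _ (by simp [hs]))
  have h6 := mul_mem (mul_mem (h5.inv (mem_USub (Set.mem_singleton α) hz) e) (h2 x hx α (Or.inl rfl) z hz))
    (conj_mem_USub (g := x⁻¹) (fun s hs u hu => by
      simpa [mul_assoc] using mul_mem (mem_USub hs hu) (h2 x hx s (Or.inr hs) u hu)) hb'')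
  refine ⟨P.n i * x⁻¹, mul_mem hK' (inv_mem (hK hx)), ?_⟩
  convert mul_mem (mem_USub (S := insert α T) (Or.inl h3) (P.n_conj_X i β a ha))
    (P.n_conj_US i (T := insert α T) (fun s hs => Or.inr (h4 s hs)) h6) using 1
  group

theorem surj2 (hS : ∀ r ∈ S, R.IsPos r) (hk : ∀ r ∈ S, ∀ s ∈ S, ∀ k ∈ R.intv r s, k = θ ∧ R.rc θ = R.rc r + R.rc s)
    (hθ : θ ∈ T) (hTS : ∀ r ∈ T, r ∈ S) (hh : ∀ γ ∈ S, γ ∉ T → ∃ β ∈ S, R.rc θ = R.rc β + R.rc γ ∧ LX P β γ θ ∅)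
    (hy : y ∈ P.US S) (hy' : y ∉ P.US T) (hz : z ∈ P.X θ) : ∃ x ∈ P.US S, z = x * y * x⁻¹ * y⁻¹ := by
  obtain ⟨γ, h1, h2, a, ha, ha1, b, hb, e⟩ := lead2 (T := T) (y := y⁻¹)
    (fun r hr s hs k h => (hk r (hTS r hr) s (hTS s hs) k h).1 ▸ hθ) (by simpa using hy') S
    (fun r hr s hs k h => (hk r hr s hs k h).1 ▸ hTS θ hθ) hS (inv_mem hy)
  obtain ⟨β, h3, h4, h5⟩ := hh γ h1 h2
  obtain ⟨x, hx, e1⟩ := h5 a ha ha1 _ (inv_mem hz)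
  have e2 := comm_mem (A := {β}) (nz_bot _) (nz_bot _) (by
    rintro _ rfl s hs
    exact ⟨ne_neg_of_pos (hS s hs.1) (hS _ h3), fun k h =>
      absurd (R.rc_inj (add_left_cancel ((hk _ h3 s hs.1 k h).2.symm.trans h4))) hs.2.1⟩)
    (mem_USub (Set.mem_singleton β) (inv_mem hx)) (inv_mem hb)
  have e3 := comm_mem (A := {θ}) (S := S) (nz_bot _) (nz_bot _) (by
    rintro _ rfl s hs
    exact ⟨ne_neg_of_pos (hS s hs) (hS _ (hTS _ hθ)), fun k h =>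
      absurd (left_eq_add.1 (hk _ (hTS _ hθ) s hs k h).2) (R.rc_ne_zero s)⟩)
    (mem_USub (Set.mem_singleton θ) (inv_mem hz)) (inv_mem (US_mono hb fun s hs => hs.1))
  rw [US, USub_empty] at e1
  rw [Subgroup.mem_bot] at e1 e2 e3
  refine ⟨x⁻¹, inv_mem (mem_USub h3 hx), ?_⟩
  rw [← inv_inv y, e]
  calc z = z * (z⁻¹ * b⁻¹ * z⁻¹⁻¹ * b⁻¹⁻¹) := by rw [e3, mul_one]
    _ = b⁻¹ * (z⁻¹⁻¹ * (a⁻¹ * x⁻¹ * a * x))⁻¹ * z * b := by rw [e1]; group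
    _ = (x⁻¹ * b⁻¹ * x⁻¹⁻¹ * b⁻¹⁻¹) * (b⁻¹ * (z⁻¹⁻¹ * (a⁻¹ * x⁻¹ * a * x))⁻¹ * z * b) := by rw [e2, one_mul]
    _ = _ := by group

theorem comm_theta (hS : ∀ r ∈ S, R.IsPos r) (hk : ∀ r ∈ S, ∀ s ∈ S, ∀ k ∈ R.intv r s, k = θ ∧ R.rc θ = R.rc r + R.rc s)
    (hθ : θ ∈ S) (hx : x ∈ P.US S) (hy : y ∈ P.US S) : x * y * x⁻¹ * y⁻¹ ∈ P.X θ := by
  have : Nz (P.US S) (P.US {θ}) := nz_US hS (by simpa using hS θ hθ) fun r hr s hs k h => (hk r hr s (hs ▸ hθ) k h).1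
  rw [US, US, USub_singleton] at this
  exact comm_mem this this (fun r hr s hs => ⟨ne_neg_of_pos (hS s hs) (hS r hr),
    fun k h => (hk r hr s hs k h).1 ▸ le_rfl⟩) hx hy

omit [Finite G] in
theorem commute_sup (hA : A ≤ Q) (hc : ∀ z ∈ Z, ∀ x ∈ Q, Commute z x) (hZ : Z ≤ Q)
    (hm : ∀ x ∈ Q, ∀ y ∈ Q, x * y * x⁻¹ * y⁻¹ ∈ Z) (hAZ : ∀ x ∈ A, x ∈ Z → x = 1) (hx : x ∈ A ⊔ Z) (hy : y ∈ A ⊔ Z) :
    Commute x y := by
  have h : A ≤ Subgroup.normalizer (Z : Set G) := Nz.le fun a ha z hz => by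
    rwa [← (hc z hz a (hA ha)).eq, mul_inv_cancel_right]
  obtain ⟨a, ha, z, hz, rfl⟩ := (mem_sup_iff_of_le_normalizer h).1 hx
  obtain ⟨b, hb, w, hw, rfl⟩ := (mem_sup_iff_of_le_normalizer h).1 hy
  exact ((commutatorElement_eq_one_iff_commute.1 (hAZ _ (mul_mem (mul_mem (mul_mem ha hb) (inv_mem ha)) (inv_mem hb))
    (hm a (hA ha) b (hA hb)))).mul_right (hc w hw a (hA ha)).symm).mul_left (hc z hz _ (mul_mem (hA hb) (hZ hw)))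

variable {Ω : Type*} [MulAction G Ω] [Finite Ω] {a : Ω} {q : ℕ}

theorem count_two {B : Subgroup G} (h : Nz B K) (hB : Trs Ω B) (a : Ω) (hY : Semi Ω Y) (hX : Semi Ω X)
    (hd : ∀ g ∈ Y, g ∈ X → g = 1) (hK : ∀ g, g ∈ K ↔ ∃ y ∈ Y, ∃ x ∈ X, g = y * x)
    (hc : ∀ y ∈ Y, y ≠ 1 → ∀ x ∈ X, x ≠ 1 → IsConj (y * x) z) :
    Nat.card Ω * st K a = Nat.card Ω + (Nat.card Y - 1) * (Nat.card X - 1) * fx Ω z := by
  have h1 : ∀ y ∈ Y, ∀ x ∈ X, (y * x ∉ Y ∧ y * x ∉ X) ↔ y ≠ 1 ∧ x ≠ 1 := fun y hy x hx => by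
    rw [Subgroup.mul_mem_cancel_left _ hy, Subgroup.mul_mem_cancel_right _ hx, and_comm]
    exact and_congr (not_congr ⟨hd y hy, fun e => e ▸ one_mem _⟩) (not_congr ⟨fun e => hd x e hx, fun e => e ▸ one_mem _⟩)
  rw [count_cls h hB a (M := {g | g ∉ Y ∧ g ∉ X}) (y := z) (fun e => e.1 (one_mem _)) (fun g hg e => ?_) fun g _ h1 e => ?_]
  · congr 2
    rw [show (K : Set G) ∩ {g | g ∉ Y ∧ g ∉ X} = (fun u : G × G => u.1 * u.2) '' (((Y : Set G) \ {1}) ×ˢ ((X : Set G) \ {1})) from ?_,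
      Set.InjOn.ncard_image, Set.ncard_prod, Set.ncard_sdiff_singleton_of_mem (one_mem Y),
      Set.ncard_sdiff_singleton_of_mem (one_mem X)]
    · rfl
    · rintro ⟨y, x⟩ ⟨hy, hx⟩ ⟨y', x'⟩ ⟨hy', hx'⟩ (e : y * x = y' * x')
      have e2 : y'⁻¹ * y = x' * x⁻¹ := by rw [inv_mul_eq_iff_eq_mul, ← mul_assoc, ← e, mul_inv_cancel_right]
      obtain rfl : y' = y := inv_mul_eq_one.1 (hd _ (mul_mem (inv_mem hy'.1) hy.1) (e2 ▸ mul_mem hx'.1 (inv_mem hx.1)))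
      rw [mul_left_cancel e]
    · ext g
      constructor
      · rintro ⟨hg, e⟩
        obtain ⟨y, hy, x, hx, rfl⟩ := (hK g).1 hg
        exact ⟨(y, x), ⟨⟨hy, ((h1 y hy x hx).1 e).1⟩, hx, ((h1 y hy x hx).1 e).2⟩, rfl⟩
      · rintro ⟨⟨y, x⟩, ⟨hy, hx⟩, rfl⟩
        exact ⟨(hK _).2 ⟨y, hy.1, x, hx.1, rfl⟩, (h1 y hy.1 x hx.1).2 ⟨hy.2, hx.2⟩⟩
  · obtain ⟨y, hy, x, hx, rfl⟩ := (hK g).1 hg
    exact hc y hy ((h1 y hy x hx).1 e).1 x hx ((h1 y hy x hx).1 e).2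
  · rcases not_and_or.1 e with e | e
    exacts [hY.fx (not_not.1 e) h1, hX.fx (not_not.1 e) h1]

theorem semiM_of (hU : Trs Ω P.U) (hQ : Nz P.B Q) (hI : IR P) (hr : R.IsPos r)
    (ih : ∀ s, R.IsPos s → R.ht r < R.ht s → P.X s ≤ MR Ω Q) (h1 : ¬ P.X r ≤ MR Ω Q) :
    SemiM Ω Q (P.X r) ∧ ∀ x ∈ P.X r, ∀ u ∈ P.U, x⁻¹ * u⁻¹ * x * u ∈ MR Ω Q := by
  have hQU := hQ.mono P.U_le_B
  have h3 : ∀ x ∈ P.X r, ∀ u ∈ P.U, x⁻¹ * u⁻¹ * x * u ∈ MR Ω Q := fun x hx u hu => by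
    simpa [mul_assoc] using inv_mem (USub_le_iff.2 (fun s hs => ih s hs.1 hs.2) (U_comm_X hr hx hu))
  exact ⟨fun x hx b t ht e => by_contra fun e' => h1 (hI r _ (hQ.mr.mono P.H_le_B) x hx e'
    (mem_MR_of hU hQU (hQU x (P.X_le_U hr hx)) (h3 x hx) ht e)), h3⟩

theorem X_le_MR' (hU : Trs Ω P.U) (hQ : Nz P.B Q) (hI : IR P)
    (hn : Nat.card Ω ≤ ob Q a * Nat.card (P.X r)) (hr : R.IsPos r) (ih : ∀ s, R.IsPos s → R.ht r < R.ht s → P.X s ≤ MR Ω Q)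
    (hd : (∀ u ∈ P.U, ∀ v ∈ P.U, u⁻¹ * v⁻¹ * u * v ∈ MR Ω Q) → ∃ x ∈ P.X r, x ≠ 1 ∧ x ∈ MR Ω Q) :
    P.X r ≤ MR Ω Q := by
  by_contra h1
  obtain ⟨h4, h3⟩ := semiM_of hU hQ hI hr ih h1
  obtain ⟨x, hx, hx1, e⟩ := hd fun u hu v hv => by
    simpa using comm_mem_MR (P.X_le_U hr) (hQ.mono P.U_le_B) (X_comm r) h3 h4 hn (inv_mem hu) (inv_mem hv)
  obtain ⟨t, ht, e⟩ := e a
  exact hx1 (h4 x hx a t ht e)

theorem trs_of_dom' (hU : Trs Ω P.U) (hQ : Nz (P.PJ J) Q) (hJ : P.UJ J ≤ MR Ω Q)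
    (hd : ∀ r, R.IsPos r → R.InSub J r → (∀ i ∈ J, 0 ≤ R.pair (R.simple i) r) →
      (∀ s, R.IsPos s → R.ht r < R.ht s → P.X s ≤ MR Ω Q) → P.X r ≤ MR Ω Q) : Trs Ω Q := by
  refine hU.of_MR (USub_le_iff.2 (ht_ind R fun r ih hr => ?_))
  by_cases h1 : R.InSub J r
  swap
  · exact (le_USub (S := {r | R.IsPos r ∧ ¬ R.InSub J r}) ⟨hr, h1⟩).trans hJ
  by_cases h2 : ∀ i ∈ J, 0 ≤ R.pair (R.simple i) r
  · exact hd r hr h1 h2 fun s h h' => ih s h' h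
  · push Not at h2
    obtain ⟨i, hi, h2⟩ := h2
    have := R.ht_sref i r
    have := IsPos.ht_pos hr
    exact X_le_of_n hQ.mr hi (ih _ (by omega) (isPos_iff_ht.2 (by omega)))

theorem X_le_of_n' (hM : Nz K M) (hi : P.n i ∈ K) (h : P.X (R.sref i r) ≤ M) : P.X r ≤ M := fun x hx => by
  simpa [mul_assoc] using hM.inv hi (h (P.n_conj_X i r x hx))

section Chev
open ChevM _root_.Cfsg.Lie
variable {D : ChevalleyDatum} [Tab D] {F : Type*} [Field F] [Finite F]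

theorem lx_of {r s k : Fin D.nroots} {c : ℤ} {L : List (ℕ × ℤ × ℕ × ℕ)} (hc : (c : F) ≠ 0) (h1 : s ≠ r)
    (h2 : s ≠ (rs D).neg r) (h : D.commTerms r s = ((k : ℕ), c, 1, 1) :: L) {T : Set (Fin D.nroots)}
    (hL : ∀ e ∈ L, ∃ t ∈ T, e.1 = t.1) : LX (PG D F) r s k T := fun a ha ha1 z hz => by
  obtain ⟨u, rfl⟩ := mem_X_iff.1 ha
  obtain ⟨v, rfl⟩ := mem_X_iff.1 hz
  have hu : u ≠ 0 := fun e => ha1 (e ▸ xG_zero _)
  refine ⟨_, mem_X_iff.2 ⟨-(v / (c * u)), rfl⟩, ?_⟩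
  rw [(stRel_xG D F).comm' h1 h2, ChevalleyDatum.commWord, h, List.map_cons, wordVal_cons,
    show (c : F) * (- -(v / (c * u))) ^ 1 * u ^ 1 = v by field_simp, inv_mul_cancel_left]
  clear h
  induction L with
  | nil => exact one_mem _
  | cons e L ih =>
    obtain ⟨t, ht, e'⟩ := hL e (by simp)
    rw [List.map_cons, wordVal_cons]
    exact mul_mem (mem_USub ht (mem_X_iff.2 ⟨_, by rw [e']⟩)) (ih fun e he => hL e (by simp [he]))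

end Chev

end Cfsg.Agent.T2X
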