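import Cfsg.Agent.Lib.T2X.F
import Cfsg.Agent.Lib.Chev.Char2

/-! Tools for the group of type `F₄`. -/

set_option autoImplicit false
set_option linter.unusedSectionVars false

namespace Cfsg.Agent.T2X.F4

open MulAction Finset T2 Chev RD RSys PreRGD ChevM _root_.Cfsg.Lie

/-- a root -/
abbrev rt (r : ℕ) (h : r < chevF4.nroots := by decide) : Fin chevF4.nroots := ⟨r, h⟩

/-- a node -/
abbrev nd (i : ℕ) (h : i < chevF4.rank := by decide) : Fin chevF4.rank := ⟨i, h⟩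

/-- a set of roots -/
def ls (L : List ℕ) : Set (Fin chevF4.nroots) := {k | k.val ∈ L}

instance decLs (r : Fin chevF4.nroots) (L : List ℕ) : Decidable (r ∈ ls L) := inferInstanceAs (Decidable (r.1 ∈ L))

/-- a test for membership in an interval -/
def iv (r s k : ℕ) : Bool := !Chev.allLt 4 fun i => Chev.allLt 4 fun j =>
  !Nat.beq (certF4.K k + (i + j + 1) * certF4.K0) ((i + 1) * certF4.K r + (j + 1) * certF4.K s)

theorem pos {r : Fin chevF4.nroots} (h : 24 ≤ r.1) : (rs chevF4).IsPos r :=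
  (rs_isPos_iff_le r).2 (by change 48 ≤ _; omega)

theorem iv_of {r s k : Fin chevF4.nroots} (hr : 24 ≤ r.1) (hs : 24 ≤ s.1) (hk : k ∈ (rs chevF4).intv r s) :
    iv r s k = true := by
  obtain ⟨i, j, hi, hj, e⟩ := hk
  have h0 : ∀ m, (rs chevF4).rc k m ≤ 4 := fun m =>
    (by decide +kernel : ∀ k < 48, ∀ m < 4, rcN chevF4 k m ≤ 4) k k.2 m m.2
  obtain ⟨m, hm⟩ := (pos hr).exists_pos
  obtain ⟨m', hm'⟩ := (pos hs).exists_pos
  have h1 := h0 m
  have h2 := h0 m'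
  have h3 : 0 ≤ (rs chevF4).rc s m := pos hs m
  have h4 : 0 ≤ (rs chevF4).rc r m' := pos hr m'
  simp only [e, Pi.add_apply, Pi.smul_apply, smul_eq_mul] at h1 h2
  have h5 : i ≤ 4 := by zify; nlinarith
  have h5' : j ≤ 4 := by zify; nlinarith
  have h6 := keyOK_F4.K_eq k
  rw [e, map_add, map_smul, map_smul, smul_eq_mul, smul_eq_mul] at h6
  obtain ⟨i, rfl⟩ := Nat.exists_eq_add_of_lt hi
  obtain ⟨j, rfl⟩ := Nat.exists_eq_add_of_lt hj
  rw [iv, Bool.not_eq_true', ← Bool.not_eq_true, Chev.allLt_iff]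
  intro h
  have h7 := Chev.allLt_iff.1 (h i (by omega)) j (by omega)
  rw [Bool.not_eq_true', beq_false_iff] at h7
  refine h7 ?_
  zify
  rw [h6, keyOK_F4.K_eq r, keyOK_F4.K_eq s]
  push_cast
  ring

/-- intervals between two lists of positive roots -/
def Sub (A B T : List ℕ) : Prop := (∀ r ∈ A ++ B, 24 ≤ r) ∧ ∀ r ∈ A, ∀ s ∈ B, ∀ k < 48, iv r s k → k ∈ T

instance decSub (A B T : List ℕ) : Decidable (Sub A B T) := by unfold Sub; infer_instance

variable {A B T L : List ℕ} {F : Type*} [Field F] [Finite F] {r s k i : ℕ} {x y : chevF4.group F}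

theorem Sub.posl (h : Sub A B T) : ∀ r ∈ ls A, (rs chevF4).IsPos r := fun r hr => pos (h.1 r (by simp [show r.1 ∈ A from hr]))

theorem Sub.posr (h : Sub A B T) : ∀ r ∈ ls B, (rs chevF4).IsPos r := fun r hr => pos (h.1 r (by simp [show r.1 ∈ B from hr]))

theorem Sub.sub (h : Sub A B T) : ∀ r ∈ ls A, ∀ s ∈ ls B, (rs chevF4).intv r s ⊆ ls T := fun r hr s hs k hk =>
  h.2 r hr s hs k k.2 (iv_of (h.1 r (by simp [show r.1 ∈ A from hr])) (h.1 s (by simp [show s.1 ∈ B from hs])) hk)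

theorem ls_cons (h : r < chevF4.nroots) (L : List ℕ) : ls (r :: L) = insert (rt r h) (ls L) :=
  Set.ext fun k => by simp [ls, Fin.ext_iff]

theorem ls_nil : ls [] = ∅ := Set.ext fun k => by simp [ls]

theorem US_one (h : r < chevF4.nroots) : (PG chevF4 F).US (ls [r]) = (PG chevF4 F).X (rt r h) := by
  rw [ls_cons h, ls_nil, insert_empty_eq, US, USub_singleton]

theorem ls_mono (h : A ⊆ B) : (PG chevF4 F).US (ls A) ≤ (PG chevF4 F).US (ls B) := USub_mono fun _ hk => h hk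

theorem card_ls (h : Sub A A A) {n : ℕ} (h' : (univ.filter fun r : Fin 48 => r.1 ∈ A).card = n) :
    Nat.card ((PG chevF4 F).US (ls A)) = Nat.card F ^ n := by
  rw [card_US_pow (q := Nat.card F) (e := fun _ => 1) (nondeg _ F) (fun r => by simp [card_X]) h.posl h.sub
    (univ.filter fun r : Fin 48 => r.1 ∈ A) fun r => mem_filter_univ _, ← h', card_eq_sum_ones]
  rfl

theorem mem_append (h : Sub (A ++ B) (A ++ B) (A ++ B)) : x ∈ (PG chevF4 F).US (ls (A ++ B)) ↔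
    ∃ a ∈ (PG chevF4 F).US (ls A), ∃ b ∈ (PG chevF4 F).US (ls B), x = a * b :=
  ⟨((PG chevF4 F).commOn_halfSpace (halfSpace_of_pos h.posl)).exists_mul (halfSpace_of_pos h.posl) h.sub
    (Set.ext fun _ => List.mem_append.symm), fun ⟨_, ha, _, hb, e⟩ => e ▸ mul_mem (ls_mono (by simp) ha) (ls_mono (by simp) hb)⟩

/-- the leading term of a commutator is `±t u` -/
def Lx (r s k : ℕ) (T : List ℕ) : Prop := s ≠ r ∧ r + s + 1 ≠ 48 ∧
  (∃ c ∈ [1, -1], (chevF4.commTerms r s).head? = some (k, c, 1, 1)) ∧ ∀ e ∈ (chevF4.commTerms r s).tail, e.1 ∈ T ∧ e.1 < 48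

instance decLx (r s k : ℕ) (T : List ℕ) : Decidable (Lx r s k T) := by unfold Lx; infer_instance

theorem Lx.lx {r s k : Fin chevF4.nroots} (h : Lx r s k T) : LX (PG chevF4 F) r s k (ls T) := by
  obtain ⟨h1, h2, ⟨c, h3, h4⟩, h5⟩ := h
  refine lx_of (c := c) (by simp only [List.mem_cons, List.not_mem_nil, or_false] at h3; rcases h3 with rfl | rfl <;> simp)
    (fun e => h1 (congrArg Fin.val e)) (ne_neg_of_add h2) (List.cons_head?_tail h4).symm
    fun e he => ⟨⟨_, (h5 e he).2⟩, (h5 e he).1, rfl⟩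

theorem sref_eq (i : Fin chevF4.rank) (r s : Fin chevF4.nroots) (h : chevF4.reflectRoot i r = s := by decide +kernel) :
    (rs chevF4).sref i r = s := Fin.ext ((reflectRoot_eq i r).symm.trans h)

theorem xn {G : Type*} [Group G] [Finite G] {P : PreRGD (rs chevF4) G} {K M : Subgroup G} (hM : Nz K M)
    {i : Fin chevF4.rank} (hi : P.n i ∈ K) (r : Fin chevF4.nroots) {s : Fin chevF4.nroots} (h' : P.X s ≤ M)
    (h : chevF4.reflectRoot i r = s := by decide +kernel) : P.X r ≤ M :=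
  X_le_of_n' hM hi (sref_eq i r s h ▸ h')

theorem n_mem (i : Fin chevF4.rank) (h : ∀ s ∈ T, chevF4.reflectRoot i s ∈ T) :
    (PG chevF4 F).n i ∈ Subgroup.normalizer ((PG chevF4 F).US (ls T) : Set (chevF4.group F)) := by
  have h1 : ∀ s ∈ ls T, (rs chevF4).sref i s ∈ ls T := fun s hs => show _ ∈ T from reflectRoot_eq i s ▸ h s hs
  exact Subgroup.mem_normalizer_iff.2 fun x => ⟨(PG chevF4 F).n_conj_US i h1, fun hx => by
    simpa [mul_assoc] using conj_mem_USub (g := ((PG chevF4 F).n i)⁻¹) (K := (PG chevF4 F).US (ls T))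
      (fun s hs x hx => mem_USub (h1 s hs) (by simpa using (PG chevF4 F).n_inv_conj_X i s hx)) hx⟩

theorem conj_h (s r : Fin chevF4.nroots) {t : F} (ht : t ≠ 0) (u : F) {c : ℤ} (h : chevF4.pairing s r = c) :
    hElt chevF4 (xG chevF4 F) s t * xG chevF4 F r u * (hElt chevF4 (xG chevF4 F) s t)⁻¹ = xG chevF4 F r (t ^ c * u) := by
  rw [(r7_xG chevF4 F).h_conj_x (stRel_xG chevF4 F) s r ht, rs_pair, h]

/-- the roots of the unipotent radical -/
def qL : List ℕ := [24, 26, 29, 31, 32, 36, 38, 39, 40, 42, 43, 44, 45, 46, 47]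

theorem xok : XOK chevF4 (rt 47) (nd 3) 2 1 7 (lw chevF4 2 1)
    [15, 14, 13, 12, 11, 10, 11, 10, 9, 9, 8, 8, 7, 7, 6, 6, 5, 4, 5, 4, 3, 2, 1, 0] := by decide +kernel

theorem hi : Hi (rs chevF4) (rt 47) (nd 3) := xok.hi

theorem mem_qL {r : Fin chevF4.nroots} : r ∈ ls qL ↔ 0 < (rs chevF4).rc r (nd 3) :=
  (by decide +kernel : ∀ r < 48, r ∈ qL ↔ 0 < rcN chevF4 r 3) r r.2

theorem Q_eq : (PG chevF4 F).UJ {nd 3}ᶜ = (PG chevF4 F).US (ls qL) :=
  (UJ_eq _ _).trans (congrArg (PG chevF4 F).US (Set.ext fun _ => mem_qL.symm))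

theorem card_X' (r : Fin chevF4.nroots) :
    Nat.card ((PG chevF4 F).X r) = Nat.card F ^ if len chevF4 r = 2 then 1 else 1 := by simp [card_X]

theorem card_Q : Nat.card ((PG chevF4 F).UJ {nd 3}ᶜ) = Nat.card F ^ 15 := xok.card_Q (nondeg _ F) card_X'

theorem index_eq : ((PG chevF4 F).PJ {nd 3}ᶜ).index * (Nat.card F - 1) = (Nat.card F ^ 12 - 1) * (Nat.card F ^ 4 + 1) := by
  rw [xok.index (nondeg _ F) card_X' PG_full]
  have h : 0 < Nat.card F := Nat.card_pos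
  simp only [List.map, List.sum_cons, List.sum_nil]
  zify [h, fun k => Nat.one_le_pow k _ h]
  ring

theorem exists_p (F : Type*) [Field F] [Finite F] : ∃ p f, p.Prime ∧ Nat.card F = p ^ f ∧ ¬ p ∣ Nat.card (PG chevF4 F).H := by
  obtain ⟨p, n, hp, hn, e⟩ := (isPrimePow_nat_iff _).mp (primePow_card F)
  exact ⟨p, n, hp, e.symm, not_dvd_H p hp (e ▸ dvd_pow_self p hn.ne')⟩

variable {M : Subgroup (chevF4.group F)}

theorem dom {r : Fin chevF4.nroots} (h1 : (rs chevF4).IsPos r) (h2 : (rs chevF4).InSub {nd 3}ᶜ r)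
    (h3 : ∀ i ∈ ({nd 3}ᶜ : Set _), 0 ≤ (rs chevF4).pair ((rs chevF4).simple i) r) : r = rt 37 ∨ r = rt 41 :=
  ((by decide +kernel : ∀ r < 48, 48 ≤ 2 * r → rcN chevF4 r 3 = 0 → (∀ i < 3, 0 ≤ chevF4.cartan i r) → r = 37 ∨ r = 41)
    r r.2 ((rs_isPos_iff_le r).1 h1) (inSub_iff.1 h2) fun i hi => rs_pair_simple (nd i (hi.trans (by decide))) r ▸
      h3 _ fun e => hi.ne (congrArg Fin.val e)).imp Fin.ext Fin.ext

theorem comm_dom (h : ∀ u ∈ (PG chevF4 F).U, ∀ v ∈ (PG chevF4 F).U, u⁻¹ * v⁻¹ * u * v ∈ M) {r : Fin chevF4.nroots}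
    (hr : r = rt 37 ∨ r = rt 41) : ∃ x ∈ (PG chevF4 F).X r, x ≠ 1 ∧ x ∈ M := by
  have h1 := (Lx.lx (F := F) (r := rt 28) (s := rt 34) (k := rt 37) (T := []) (by decide +kernel)).le (nondeg _ F)
    (fun a ha x hx => h a (X_le_U _ (pos (by decide)) ha) x (X_le_U _ (pos (by decide)) hx)) (by simp [ls])
  have h0 : ∀ r : Fin chevF4.nroots, xG chevF4 F r 1 ≠ 1 := fun r e =>
    one_ne_zero (xG_injective r.2 (e.trans (xG_zero _).symm))
  rcases hr with rfl | rfl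
  · exact ⟨_, mem_X_iff.2 ⟨1, rfl⟩, h0 _, h1 (mem_X_iff.2 ⟨1, rfl⟩)⟩
  have h2 := h _ (X_le_U _ (pos (r := rt 33) (by decide)) (mem_X_iff.2 ⟨1, rfl⟩)) _
    (X_le_U _ (pos (r := rt 30) (by decide)) (mem_X_iff.2 ⟨1, rfl⟩))
  rw [(stRel_xG chevF4 F).comm' (by decide) (ne_neg_of_add (by decide)), ChevalleyDatum.commWord,
    show chevF4.commTerms (rt 30) (rt 33) = [(37, 1, 1, 1), (41, -1, 1, 2)] by decide +kernel, List.map_cons,
    wordVal_cons, Subgroup.mul_mem_cancel_left _ (h1 (mem_X_iff.2 ⟨_, rfl⟩))] at h2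
  exact ⟨_, mem_X_iff.2 ⟨1, rfl⟩, h0 _, by simpa using h2⟩

end Cfsg.Agent.T2X.F4
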