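import Cfsg.Agent.Lib.T2X.F4a

/-! The group of type `F₄` in odd characteristic. -/

set_option autoImplicit false
set_option linter.unusedSectionVars false
set_option synthInstance.maxSize 8000

namespace Cfsg.Agent.T2X.F4

open MulAction Finset T2 Chev RD RSys PreRGD ChevM _root_.Cfsg.Lie

variable {F : Type*} [Field F] [Finite F]

theorem lg_len (r : Fin chevF4.nroots) : Lg (rs chevF4) r ↔ len chevF4 r = 2 :=
  lg_iff.trans ((by decide +kernel : ∀ r < 48, (∀ s < 48, s ≠ r → chevF4.pairing r s ≤ 1) ↔ len chevF4 r = 2) r r.2)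

theorem ld (h2 : (2 : F) ≠ 0) : LD (PG chevF4 F) where
  ne r := (nondeg _ F).exists_ne_one r
  heis {α β γ} hα h1 h3 y hy hy1 z hz := by
    obtain ⟨a, b, c, d, e⟩ := (by decide +kernel : ∀ α < 48, len chevF4 α = 2 → ∀ β < 48, chevF4.pairing α β = 1 →
      ∀ γ < 48, (∀ i < 4, rcN chevF4 α i = rcN chevF4 β i + rcN chevF4 γ i) → γ ≠ β ∧ β + γ + 1 ≠ 48 ∧
        ∃ c ∈ [1, -1, 2, -2], chevF4.commTerms β γ = [(α, c, 1, 1)]) α α.2 ((lg_len α).1 hα) β β.2 (rs_pair α β ▸ h3)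
      γ γ.2 fun i hi => congrFun h1 ⟨i, hi⟩
    obtain ⟨x, hx, h4⟩ := lx_of (F := F) (T := ∅) (by
      simp only [List.mem_cons, List.not_mem_nil, or_false] at d
      rcases d with rfl | rfl | rfl | rfl <;> simp [h2]) (fun e => a (congrArg Fin.val e)) (ne_neg_of_add b) e (by simp)
      _ (inv_mem hy) (by simpa using hy1) _ (inv_mem hz)
    rw [US, USub_empty, Subgroup.mem_bot] at h4
    exact ⟨x⁻¹, inv_mem hx, by rw [← inv_inv z, eq_inv_of_mul_eq_one_left h4]; group⟩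
  tor {α} _ :=
    let ⟨r, h, e⟩ := (by decide +kernel : ∀ α < 48, ∃ r < 48, chevF4.pairing r α = 1) α α.2
    tor_of_pair ((rs_pair ⟨r, h⟩ α).trans e)

/-- the roots of the unipotent radical in the Levi factor -/
def sL : List ℕ := [33, 34, 35, 37, 41]

theorem hk_sL : ∀ r ∈ ls sL, ∀ s ∈ ls sL, ∀ k ∈ (rs chevF4).intv r s,
    k = rt 41 ∧ (rs chevF4).rc (rt 41) = (rs chevF4).rc r + (rs chevF4).rc s := fun r hr s hs k hk => by
  have h : ∀ r ∈ ls sL, 1 ≤ (rs chevF4).pair (rt 41) r := fun r hr =>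
    rs_pair (rt 41) r ▸ (by decide +kernel : ∀ r ∈ sL, 1 ≤ chevF4.pairing 41 r) r hr
  exact ⟨Fin.ext (List.mem_singleton.1 ((by decide +kernel : Sub sL sL [41]).sub r hr s hs hk)),
    ((lg_len _).2 (by decide)).intv_hook (h r hr) (h s hs) hk⟩

variable {Ω : Type*} [MulAction (chevF4.group F) Ω] [Finite Ω] [Nontrivial Ω] [FaithfulSMul (chevF4.group F) Ω]

theorem second (h2 : (2 : F) ≠ 0) (hU : Trs Ω (PG chevF4 F).U) (hn : Nat.card Ω = Nat.card F ^ 12) (a : Ω)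
    (ha : Nat.card F ^ 8 ≤ ob ((PG chevF4 F).UJ {nd 3}ᶜ) a) : Trs Ω ((PG chevF4 F).UJ {nd 3}ᶜ) := by
  have hP := nondeg chevF4 F
  have L := ld h2
  have hq : 1 < Nat.card F := Finite.one_lt_card
  generalize hPe : PG chevF4 F = P at hU ha hP L
  have hX : ∀ r, Nat.card (P.X r) = Nat.card F := hPe ▸ card_X
  have hI : IR P := hPe ▸ ir_PG
  have lx : ∀ {r s k : Fin chevF4.nroots} {T}, Lx r s k T → LX P r s k (ls T) := fun h => hPe ▸ h.lx
  have hM := (nz_Q P {nd 3}ᶜ).mr (Ω := Ω)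
  by_cases h41 : P.X (rt 41) ≤ MR Ω (P.UJ {nd 3}ᶜ)
  · refine trs_of_dom' hU (nz_Q P _) (le_MR _) fun r a1 a2 a3 _ => ?_
    rcases dom a1 a2 a3 with rfl | rfl
    · have h30 : P.X (rt 30) ≤ MR Ω (P.UJ {nd 3}ᶜ) := xn hM (P.NJ_le_PJ _ (P.n_mem_NJ (j := nd 0) (by decide))) _ h41
      refine (lx (r := rt 33) (s := rt 30) (T := [41]) (by decide +kernel)).le hP (fun u hu x hx => ?_) fun s hs => ?_
      · simpa [mul_assoc] using mul_mem (inv_mem (h30 hu)) (hM.inv (P.U_le_PJ _ (P.X_le_U (pos (by decide)) hx)) (h30 hu))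
      · rwa [show s = rt 41 from Fin.ext (List.mem_singleton.1 hs)]
    · exact h41
  exfalso
  have hQ := nz_Q P {nd 3}ᶜ
  obtain ⟨h3, -⟩ := semiM_of hU (hQ.mono (P.B_le_PJ _)) hI (pos (by decide)) (fun s c1 c2 x hx => le_MR _
    (mem_USub (S := {r | (rs chevF4).IsPos r ∧ ¬ (rs chevF4).InSub {nd 3}ᶜ r}) (mem_SQ.2
    ((by decide +kernel : ∀ s < 48, sumLt 4 (rcN chevF4 41) < sumLt 4 (rcN chevF4 s) → 0 < rcN chevF4 s 3) s s.2
      (by rwa [ht_eq, ht_eq] at c2))) hx)) h41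
  have s1 : Sub sL sL sL := by decide +kernel
  have hLU : P.US (ls sL) ≤ P.U := USub_mono s1.posl
  obtain ⟨A, hA, hA', h4⟩ := ob_mul_eq (hQ.mono (hLU.trans (P.U_le_PJ _))) a
  have hZ : P.X (rt 41) ≤ P.US (ls sL) := le_USub (by decide)
  have hm : ∀ x ∈ P.US (ls sL), ∀ y ∈ P.US (ls sL), x * y * x⁻¹ * y⁻¹ ∈ P.X (rt 41) := fun x hx y hy =>
    comm_theta s1.posl hk_sL (by decide) hx hy
  have hc : ∀ z ∈ P.X (rt 41), ∀ x ∈ P.US (ls sL), Commute z x := fun z hz x hx =>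
    commutatorElement_eq_one_iff_commute.1 (comm_mem (A := {rt 41}) (nz_bot _) (nz_bot _) (by
      rintro _ rfl s hs
      exact ⟨ne_neg_of_pos (s1.posl s hs) (pos (by decide)), fun k h =>
        absurd (left_eq_add.1 (hk_sL _ (by decide) s hs k h).2) ((rs chevF4).rc_ne_zero s)⟩)
      (mem_USub (Set.mem_singleton _) hz) hx)
  have hAZ : ∀ x ∈ A, x ∈ P.X (rt 41) → x = 1 := fun x hx hx' =>
    let ⟨_, r, hr, e⟩ := (hA' x).1 hx; h3 x hx' a r hr e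
  have l41 := (lg_len (rt 41)).2 (by decide)
  have h5 := heis_bound hA hZ le_rfl (hP.X_ne_bot _) hc hm (fun y hy hy' z hz => surj2 (T := {rt 41}) s1.posl hk_sL rfl
    (by rintro _ rfl; decide) (fun γ c1 c2 => ?_) hy (by simpa using hy') hz) hAZ
  swap
  · obtain ⟨β, c3, c4, c5, c6⟩ := (by decide +kernel : ∀ γ ∈ sL, γ ≠ 41 → ∃ β ∈ sL, β < 48 ∧ chevF4.pairing 41 β = 1 ∧
      ∀ i < 4, rcN chevF4 41 i = rcN chevF4 β i + rcN chevF4 γ i) γ c1 fun e => c2 (Fin.ext e)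
    have c7 : (rs chevF4).rc (rt 41) = (rs chevF4).rc ⟨β, c4⟩ + (rs chevF4).rc γ := funext fun i => c6 i i.2
    refine ⟨⟨β, c4⟩, c3, c7, fun u hu hu1 z hz => ?_⟩
    obtain ⟨x, hx, e⟩ := L.heis l41 c7 ((rs_pair _ _).trans c5) _ (inv_mem hu) (by simpa using hu1) _ (inv_mem hz)
    exact ⟨x⁻¹, inv_mem hx, by rw [e]; simp [mul_assoc]⟩
  have c5 : Nat.card (P.US (ls sL)) = Nat.card F ^ 5 := hPe ▸ card_ls s1 (by decide +kernel)
  rw [hX, c5] at h5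
  rw [c5] at h4
  generalize Nat.card F = q at *
  have h6 : Nat.card A ≤ q ^ 2 := Nat.mul_self_le_mul_self_iff.1 (Nat.le_of_mul_le_mul_right
    (h5.trans_eq (by ring)) (by omega : 0 < q))
  have e1 : P.UJ {nd 3}ᶜ ⊔ P.US (ls sL) = P.UJ {nd 1, nd 2} := by
    rw [UJ_eq, ← USub_union, UJ]
    refine congrArg P.US (Set.ext fun r => ?_)
    have := (by decide +kernel : ∀ r < 48, (0 < rcN chevF4 r 3 ∨ r ∈ sL) ↔ 48 ≤ 2 * r ∧
      ¬ ∀ i < 4, ¬ (i = 1 ∨ i = 2) → rcN chevF4 r i = 0) r r.2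
    refine this.trans (and_congr (rs_isPos_iff_le r).symm (not_congr ⟨fun h i hi => h i i.2 fun e => hi ?_,
      fun h i hi e => h ⟨i, hi⟩ fun e' => e ?_⟩))
    · exact e.imp Fin.ext Fin.ext
    · exact e'.imp (congrArg Fin.val) (congrArg Fin.val)
  have h7 : Nat.card Ω ≤ ob (P.UJ {nd 1, nd 2}) a * q := by
    rw [hn, ← e1]
    refine Nat.le_of_mul_le_mul_right ?_ (pow_pos (by omega : 0 < q) 2)
    calc _ = q ^ 8 * q ^ 5 * q := by ring
      _ ≤ _ := Nat.mul_le_mul_right _ (h4 ▸ Nat.mul_le_mul_right _ ha)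
      _ ≤ _ := by rw [mul_right_comm]; exact Nat.mul_le_mul_left _ h6
  have h8 : Trs Ω (P.UJ {nd 1, nd 2}) := by
    refine trs_of_dom' hU (nz_Q P _) (le_MR _) fun r a1 a2 a3 a4 =>
      X_le_MR' hU ((nz_Q P _).mono (P.B_le_PJ _)) hI (hX r ▸ h7) a1 a4 fun a5 => ?_
    rcases (by decide +kernel : ∀ r < 48, 48 ≤ 2 * r → rcN chevF4 r 0 = 0 → rcN chevF4 r 3 = 0 → 0 ≤ chevF4.cartan 1 r →
      0 ≤ chevF4.cartan 2 r → r = 28 ∨ r = 30) r r.2 ((rs_isPos_iff_le r).1 a1) (a2 (nd 0) (by decide))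
      (a2 (nd 3) (by decide)) (rs_pair_simple (nd 1) r ▸ a3 _ (by decide)) (rs_pair_simple (nd 2) r ▸ a3 _ (by decide))
      with e | e
    · obtain rfl : r = rt 28 := Fin.ext e
      obtain ⟨x, hx, hx1⟩ := L.ne (rt 28)
      refine ⟨x, hx, hx1, (lx (r := rt 25) (s := rt 27) (T := [30]) (by decide +kernel)).le hP (fun u hu x hx =>
        a5 u (P.X_le_U (pos (by decide)) hu) x (P.X_le_U (pos (by decide)) hx)) (fun s hs => ?_) hx⟩
      obtain rfl : s = rt 30 := Fin.ext (List.mem_singleton.1 hs)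
      exact a4 _ (pos (by decide)) (by rw [ht_eq, ht_eq]; decide +kernel)
    · obtain rfl : r = rt 30 := Fin.ext e
      obtain ⟨x, hx, hx1, u, hu, v, hv, rfl⟩ := comm_of_lg L ((lg_len _).2 (by decide)) a1 (by rw [ht_eq]; decide +kernel)
      exact ⟨_, hx, hx1, by simpa using a5 _ (inv_mem hu) _ (inv_mem hv)⟩
  let K := P.PJ {nd 3}ᶜ ⊓ Subgroup.normalizer (P.US (ls sL)) ⊓ Subgroup.normalizer (P.US (ls [41]))
  have e2 : P.US (ls [41]) = P.X (rt 41) := hPe ▸ US_one _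
  have k1 : ∀ T, Sub T sL sL → Sub T [41] [41] → P.US (ls T) ≤ K := fun T c1 c2 =>
    le_inf (le_inf ((USub_mono c1.posl).trans (P.U_le_PJ _)) (nz_US c1.posl c1.posr c1.sub).le)
      (nz_US c2.posl c2.posr c2.sub).le
  have k2 : ∀ i, i = nd 1 ∨ i = nd 2 → P.n i ∈ K := fun i hi => by
    subst hPe
    rcases hi with rfl | rfl <;> exact ⟨⟨PreRGD.NJ_le_PJ _ _ (PreRGD.n_mem_NJ _ (by decide)), n_mem _ (by decide +kernel)⟩,
      n_mem _ (by decide +kernel)⟩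
  have k3 : P.H ≤ K := le_inf (le_inf (P.H_le_B.trans (P.B_le_PJ _)) (P.H_le_normalizer_US _)) (P.H_le_normalizer_US _)
  have hN := nz_final hA' (e1 ▸ h8) hZ hm (k1 _ s1 (by decide +kernel)) (hQ.mono (inf_le_left.trans inf_le_left))
    (nz_of_le (inf_le_left.trans inf_le_right)) (e2 ▸ nz_of_le inf_le_right)
  obtain ⟨y, hy, hy1⟩ : ∃ y ∈ A, y ≠ 1 := (Subgroup.bot_or_exists_ne_one A).resolve_left fun e => by
    rw [e1, h8.ob_eq, hn, e, Subgroup.card_bot, mul_one] at h4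
    have := (Nat.mul_le_mul_right (q ^ 5) ha).trans h4.ge
    rw [← pow_add, Nat.pow_le_pow_iff_right hq] at this
    omega
  have s2 : Sub [25, 27] sL sL := by decide +kernel
  have s3 : Sub [25, 27] [41] [41] := by decide +kernel
  obtain ⟨u, hu, hu1, z, hz, h9⟩ := raise2 (γ := rt 37) (Δ := ls [25, 27]) (T := ls [41]) hP s1.posl
    (by decide +kernel : Sub sL sL [41]).sub (fun r hr => (by decide : [41] ⊆ sL) hr)
    (fun δ hδ => ⟨s2.posl δ hδ, s2.sub δ hδ, s3.sub δ hδ⟩) (fun δ hδ => hN.mono ((le_USub hδ).trans (k1 _ s2 s3)))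
    (fun s c1 c2 c3 => Fin.ext ((by decide +kernel : ∀ s ∈ sL, s ∉ [41] → sumLt 4 (rcN chevF4 37) ≤ sumLt 4 (rcN chevF4 s) →
      s = 37) s c1 c2 (by rwa [ht_eq, ht_eq] at c3))) (fun β c1 c2 => by
      refine ((by decide +kernel : ∀ β ∈ sL, β ∉ [41] → β = 37 ∨ ∃ δ ∈ [25, 27], δ < 48 ∧ ∃ α ∈ sL, α < 48 ∧ α ∉ [41] ∧
        (∀ i < 4, rcN chevF4 α i = rcN chevF4 δ i + rcN chevF4 β i) ∧ Lx δ β α [41]) β c1 c2).imp Fin.ext
        fun ⟨δ, d1, d2, α, d3, d4, d5, d6, d7⟩ => ⟨⟨δ, d2⟩, d1, ⟨α, d4⟩, d3, d5, funext fun i => d6 i i.2, lx d7⟩)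
    (Subgroup.mem_sup_left hy) (hA hy) fun e => hy1 (hAZ y hy (e2 ▸ e))
  have n37 := hI _ _ (hN.mono k3) u hu hu1 ((Subgroup.mul_mem_cancel_right _ (Subgroup.mem_sup_right (e2 ▸ hz))).1 h9)
  have n33 : P.X (rt 33) ≤ A ⊔ P.X (rt 41) := xn hN (k2 _ (.inl rfl)) _
    (xn hN (k2 _ (.inr rfl)) (rt 34) (xn hN (k2 _ (.inl rfl)) (rt 35) n37))
  obtain ⟨z, hz, hz1⟩ := L.ne (rt 41)
  obtain ⟨x, hx, rfl⟩ := L.heis (β := rt 33) l41 (show Chev.rc _ _ = Chev.rc _ _ + Chev.rc _ _ by decide +kernel)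
    ((rs_pair _ _).trans (by decide +kernel)) u hu hu1 z hz
  exact hz1 (commutatorElement_eq_one_iff_commute.2 (commute_sup hA hc hZ hm hAZ (n33 hx) (n37 hu)))

theorem odd (h0 : (2 : F) ≠ 0) (h2 : Two (chevF4.group F) Ω) : ¬ Trs Ω (PG chevF4 F).B := fun hB => by
  obtain ⟨a⟩ := (inferInstance : Nonempty Ω)
  obtain ⟨p, f, hp, hf, hH⟩ := exists_p F
  have := Fact.mk hp
  have hP := nondeg chevF4 F
  have hc : ∀ r, ∃ k, Nat.card ((PG chevF4 F).X r) = p ^ k := fun r => ⟨f, (card_X r).trans hf⟩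
  have hq : 1 < Nat.card F := Finite.one_lt_card
  have h3 := hi.dvd_ob hP (ld h0) hc hB (m := 7) (card_X _) card_Q a
  have h4 := h3.trans (ob_dvd_card (nz_Q _ _) (hB.mono (PreRGD.B_le_PJ _ _)) a)
  have h5 := Nat.le_of_dvd (ob_pos _ a) h3
  have h6 : Trs Ω ((PG chevF4 F).UJ {nd 3}ᶜ) → Nat.card Ω = Nat.card F ^ 15 := fun h =>
    (hi.final hP (ld h0) hc hB h (raise_F4 (ld h0))).trans card_Q
  have h7 := pow_pos (zero_lt_one.trans hq) 4
  rcases hi.deg hP (ld h0) hc hB h2 (card_X _) h4 (pow_dvd_pow _ (by norm_num : 8 ≤ 12)) (by positivity)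
    (by nlinarith [Nat.one_lt_pow (by norm_num : 4 ≠ 0) hq, pow_add (Nat.card F) 4 4]) index_eq with h | h
  · have := h.symm.trans (h6 (second h0 (trs_U hP hH hB (k := f * 12) (by rw [h, hf, pow_mul])) h a h5))
    have := Nat.pow_right_injective hq this
    omega
  · have h8 : Nat.card Ω ≤ Nat.card F ^ 8 := by
      refine (Nat.sub_le_sub_iff_right (k := 1) (Nat.one_le_pow _ _ (by omega))).1 (Nat.le_of_mul_le_mul_right (h.trans_eq ?_) (by positivity))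
      zify [fun k => Nat.one_le_pow k _ (zero_lt_one.trans hq)]
      ring
    have := (h6 ((trs_iff_ob a).2 (h8.trans h5))).ge.trans h8
    rw [Nat.pow_le_pow_iff_right hq] at this
    omega

end Cfsg.Agent.T2X.F4
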